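import Cfsg.Agent.Lib.IIGroups.Basic
import Cfsg.Agent.Lib.GW.PGL
import Cfsg.Agent.Lib.Linear.AutPSL.GraphOdd

/-!
# Automorphism groups of `PSL₂(q)` with `IsII`

A group of automorphisms of `PSL₂(q)`, `q ≥ 5`, which contains the inner ones and satisfies `IsII` has
only inner-diagonal elements.
-/

set_option autoImplicit false
set_option linter.style.haveILetI false

namespace Cfsg.Lib.IIGroups

open Subgroup Matrix Cfsg.Lib.Linear.AutPSL Cfsg.Lib.Linear.Descent
open Cfsg.Lib.Linear.AutPSL.GForms (isSquare_of_two isSquare_mul_of_not)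

section Transport

variable {A : Type*} [Group A] {H : Subgroup A} [Finite ↥H]

theorem sub_cent_odd (h : IsII ↥H) {t x y : A} (htH : t ∈ H) (hxH : x ∈ H) (hyH : y ∈ H) (ht : orderOf t = 2)
    (hxt : Commute x t) (ho : Odd (orderOf x)) (hx1 : x ≠ 1) (hyx : Commute y x) : Commute y t := by
  have := h.centralizer_odd_le (t := ⟨t, htH⟩) (x := ⟨x, hxH⟩) ((Subgroup.orderOf_mk _ _).trans ht)
    (Subtype.ext hxt.eq) (by rwa [Subgroup.orderOf_mk]) (fun e => hx1 (congrArg Subtype.val e))
    (mem_cent.2 (Subtype.ext hyx.eq : Commute (⟨y, hyH⟩ : ↥H) ⟨x, hxH⟩))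
  exact congrArg Subtype.val (mem_cent.1 this).eq

theorem mem_zpowers_coe {a b : ↥H} (h : b ∈ zpowers a) : (b : A) ∈ zpowers (a : A) := by
  obtain ⟨k, rfl⟩ := mem_zpowers_iff.1 h
  exact ⟨k, (H.coe_zpow a k).symm⟩

theorem sub_norm_odd (h : IsII ↥H) {t x y : A} (htH : t ∈ H) (hxH : x ∈ H) (hyH : y ∈ H) (ht : orderOf t = 2)
    (hxt : Commute x t) (ho : Odd (orderOf x)) (hx1 : x ≠ 1) (hyt : Commute y t) :
    y * x * y⁻¹ ∈ zpowers x := by
  have hy : (⟨y, hyH⟩ : ↥H) ∈ normalizer (zpowers (⟨x, hxH⟩ : ↥H) : Set ↥H) := by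
    rw [h.norm_odd (t := ⟨t, htH⟩) ((Subgroup.orderOf_mk _ _).trans ht) (Subtype.ext hxt.eq)
      (by rwa [Subgroup.orderOf_mk]) (fun e => hx1 (congrArg Subtype.val e))]
    exact mem_cent.2 (Subtype.ext hyt.eq)
  exact mem_zpowers_coe ((mem_normalizer_iff.1 hy _).1 (mem_zpowers _))

theorem sub_norm_root (h : IsII ↥H) {g r y : A} (hgH : g ∈ H) (hyH : y ∈ H) (hg : Even (orderOf g))
    (hr : r ∈ zpowers g) (hr2 : orderOf r = 2) (hyr : Commute y r) : y * g * y⁻¹ ∈ zpowers g := by
  have hrH : r ∈ H := (zpowers_le.2 hgH) hr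
  have hr' : (⟨r, hrH⟩ : ↥H) ∈ zpowers (⟨g, hgH⟩ : ↥H) := by
    obtain ⟨k, rfl⟩ := mem_zpowers_iff.1 hr
    exact ⟨k, Subtype.ext (H.coe_zpow _ k)⟩
  have hy : (⟨y, hyH⟩ : ↥H) ∈ normalizer (zpowers (⟨g, hgH⟩ : ↥H) : Set ↥H) := by
    rw [h.norm_root_self (r := ⟨r, hrH⟩) (by rwa [Subgroup.orderOf_mk]) hr' ((Subgroup.orderOf_mk _ _).trans hr2)]
    exact mem_cent.2 (Subtype.ext hyr.eq)
  exact mem_zpowers_coe ((mem_normalizer_iff.1 hy _).1 (mem_zpowers _))

end Transport

variable {F : Type} [Field F] [Fintype F]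

local notation "SL2" => Matrix.SpecialLinearGroup (Fin 2) F
local notation "PSL2" => Matrix.ProjectiveSpecialLinearGroup (Fin 2) F

/-- Conjugation by an element of `SL₂`. -/
noncomputable def inn : SL2 →* MulAut PSL2 :=
  (innd : GL (Fin 2) F →* MulAut PSL2).comp SpecialLinearGroup.toGL

theorem inn_def (s : SL2) : inn s = (innd (SpecialLinearGroup.toGL s) : MulAut PSL2) := rfl

/-- `diag (u, 1)`. -/
def dg (u v : Fˣ) : GL (Fin 2) F :=
  ⟨!![(u : F), 0; 0, (v : F)], !![((u⁻¹ : Fˣ) : F), 0; 0, ((v⁻¹ : Fˣ) : F)],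
    by ext i j; fin_cases i <;> fin_cases j <;> simp [Matrix.mul_apply, Fin.sum_univ_two],
    by ext i j; fin_cases i <;> fin_cases j <;> simp [Matrix.mul_apply, Fin.sum_univ_two]⟩

theorem dg_val (u v : Fˣ) : (dg u v).val = !![(u : F), 0; 0, (v : F)] := rfl

theorem det_dg (u v : Fˣ) : GeneralLinearGroup.det (dg u v) = u * v :=
  Units.ext (by rw [GeneralLinearGroup.val_det_apply, dg_val, Units.val_mul]; simp [Matrix.det_fin_two])

theorem dg_mul (u v u' v' : Fˣ) : dg u v * dg u' v' = dg (u * u') (v * v') := Units.ext (by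
  rw [Units.val_mul, dg_val, dg_val, dg_val]
  ext i j; fin_cases i <;> fin_cases j <;> simp [Matrix.mul_apply, Fin.sum_univ_two])

theorem dg_one : dg (1 : Fˣ) 1 = 1 := Units.ext (by
  rw [dg_val]; ext i j; fin_cases i <;> fin_cases j <;> simp)

theorem dg_pow (u v : Fˣ) (k : ℕ) : dg u v ^ k = dg (u ^ k) (v ^ k) := by
  induction k with
  | zero => rw [pow_zero, pow_zero, pow_zero, dg_one]
  | succ k ih => rw [pow_succ, ih, dg_mul, ← pow_succ, ← pow_succ]

theorem sm_dg (σ : F ≃+* F) (u v : Fˣ) :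
    sm σ (dg u v) = dg (Units.map σ.toRingHom.toMonoidHom u) (Units.map σ.toRingHom.toMonoidHom v) :=
  Units.ext (by
    ext i j; fin_cases i <;> fin_cases j <;> simp [dg_val])

/-- An element of square determinant induces an inner automorphism. -/
theorem exists_inn {A : GL (Fin 2) F} (h : IsSquare (GeneralLinearGroup.det A)) :
    ∃ s : SL2, (innd A : MulAut PSL2) = inn s := by
  obtain ⟨c, hc⟩ := h
  refine ⟨⟨((sc c)⁻¹ * A : GL (Fin 2) F).val, ?_⟩, ?_⟩
  · rw [← GeneralLinearGroup.val_det_apply, map_mul, map_inv, det_sc, hc]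
    simp [pow_two]
  · refine (innd_eq_innd le_rfl).2 ⟨c, Units.ext ?_⟩
    show A.val = (sc c).val * ((sc c)⁻¹ * A).val
    rw [← Units.val_mul, mul_inv_cancel_left]

theorem inn_eq_iff {s s' : SL2} : (inn s : MulAut PSL2) = inn s' ↔ ∃ c : Fˣ, s.1 = (c : F) • s'.1 := by
  rw [inn_def, inn_def, innd_eq_innd le_rfl]
  refine exists_congr fun c => ⟨fun h => ?_, fun h => Units.ext ?_⟩
  · have := congrArg Units.val h
    rwa [Units.val_mul, sc_val, Matrix.smul_mul, Matrix.one_mul] at this
  · rw [Units.val_mul, sc_val, Matrix.smul_mul, Matrix.one_mul]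
    exact h

theorem inn_ne_one {s : SL2} (h : s.1 0 1 ≠ 0 ∨ s.1 1 0 ≠ 0 ∨ s.1 0 0 ≠ s.1 1 1) :
    (inn s : MulAut PSL2) ≠ 1 := by
  rw [← map_one (inn : SL2 →* MulAut PSL2), Ne, inn_eq_iff]
  rintro ⟨c, hc⟩
  rw [hc] at h
  simp at h

theorem fld_inn_comm {σ : F ≃+* F} {s : SL2} (h : ∀ i j, σ (s.1 i j) = s.1 i j) :
    Commute (fld σ : MulAut PSL2) (inn s) := by
  show fld σ * innd (SpecialLinearGroup.toGL s) = innd (SpecialLinearGroup.toGL s) * fld σ
  rw [fld_mul_innd']
  congr 2
  exact Units.ext (Matrix.ext h)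

/-- `[0, 1; -1, 0]` -/
def wS : SL2 := ⟨!![0, 1; -1, 0], by simp [Matrix.det_fin_two]⟩
/-- `[1, 1; 0, 1]` -/
def xS : SL2 := ⟨!![1, 1; 0, 1], by simp [Matrix.det_fin_two]⟩
/-- `[1, 0; 1, 1]` -/
def yS : SL2 := ⟨!![1, 0; 1, 1], by simp [Matrix.det_fin_two]⟩

@[simp] theorem wS_val : (wS : SL2).1 = !![0, 1; -1, 0] := rfl
@[simp] theorem xS_val : (xS : SL2).1 = !![1, 1; 0, 1] := rfl
@[simp] theorem yS_val : (yS : SL2).1 = !![1, 0; 1, 1] := rfl
@[simp] theorem toGL_val (s : SL2) : (SpecialLinearGroup.toGL s).val = s.1 := rfl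

theorem orderOf_inn_wS : orderOf (inn wS : MulAut PSL2) = 2 := by
  refine orderOf_eq_prime ?_ (inn_ne_one (Or.inl (by simp)))
  rw [pow_two, ← map_mul, ← map_one (inn : SL2 →* MulAut PSL2), inn_eq_iff]
  refine ⟨-1, ?_⟩
  ext i j
  fin_cases i <;> fin_cases j <;> simp [Matrix.mul_apply, Fin.sum_univ_two]

theorem pow_lower {s : SL2} (hs : s.1 1 0 = 0) : ∀ k : ℕ, (s ^ k).1 1 0 = 0 := by
  intro k
  induction k with
  | zero => simp
  | succ k ih =>
    rw [pow_succ, Matrix.SpecialLinearGroup.coe_mul, Matrix.mul_apply, Fin.sum_univ_two, ih, hs]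
    ring

theorem conj_not_mem {s : SL2} (hs : s.1 1 0 = 0) (ho : IsOfFinOrder (inn s : MulAut PSL2))
    (hne : s.1 0 0 - s.1 0 1 - s.1 1 1 ≠ 0) :
    inn yS * inn s * (inn yS)⁻¹ ∉ zpowers (inn s : MulAut PSL2) := by
  intro hm
  obtain ⟨k, hk⟩ : inn yS * inn s * (inn yS)⁻¹ ∈ Submonoid.powers (inn s : MulAut PSL2) := by
    rw [mem_powers_iff_mem_zpowers]; exact hm
  simp only at hk
  rw [← map_inv, ← map_mul, ← map_mul, ← map_pow] at hk
  obtain ⟨c, hc⟩ := inn_eq_iff.1 hk.symm
  have e := congrFun (congrFun hc 1) 0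
  rw [Matrix.smul_apply, pow_lower hs, smul_zero] at e
  refine hne ?_
  simp [Matrix.SpecialLinearGroup.coe_mul, SpecialLinearGroup.coe_inv, Matrix.adjugate_fin_two, Matrix.mul_apply,
    Fin.sum_univ_two, hs] at e
  simp [Matrix.vecMul, dotProduct, Fin.sum_univ_two, hs] at e
  linear_combination e

variable {H : Subgroup (MulAut (Matrix.ProjectiveSpecialLinearGroup (Fin 2) F))} [Finite ↥H]

/-- No field automorphism. -/
theorem false_of_fld (h : IsII ↥H) (hH : ∀ s : SL2, inn s ∈ H) (h5 : 5 ≤ Fintype.card F) {σ : F ≃+* F} {r : ℕ}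
    (hr : r.Prime) (hσ : orderOf σ = r) (hm : (fld σ : MulAut PSL2) ∈ H) : False := by
  haveI := Fact.mk hr
  have hφ : orderOf (fld σ : MulAut PSL2) = r := (orderOf_injective _ (fld_injective le_rfl) σ).trans hσ
  have hφ1 : (fld σ : MulAut PSL2) ≠ 1 := fun e => hr.ne_one (by rw [← hφ, e, orderOf_one])
  have hcx : Commute (fld σ : MulAut PSL2) (inn xS) :=
    fld_inn_comm fun i j => by fin_cases i <;> fin_cases j <;> simp
  have hcy : Commute (fld σ : MulAut PSL2) (inn yS) :=
    fld_inn_comm fun i j => by fin_cases i <;> fin_cases j <;> simp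
  have hcw : Commute (fld σ : MulAut PSL2) (inn wS) :=
    fld_inn_comm fun i j => by fin_cases i <;> fin_cases j <;> simp
  rcases hr.eq_two_or_odd' with rfl | hodd
  · obtain ⟨p, hp⟩ := CharP.exists F
    haveI : Fact p.Prime := ⟨CharP.char_is_prime F p⟩
    rcases (Fact.out : p.Prime).eq_two_or_odd' with rfl | hpodd
    · -- characteristic two
      obtain ⟨a, haσ, ha0, ha1⟩ : ∃ a : F, σ a = a ∧ a ≠ 0 ∧ a ≠ 1 := by
        by_contra hall
        push Not at hall
        classical
        have h2 : Nat.card (fixedF σ) ≤ 2 := by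
          rw [Nat.card_eq_fintype_card, ← Finset.card_univ, ← Finset.card_map (Function.Embedding.subtype _)]
          refine (Finset.card_le_card (t := ({0, 1} : Finset F)) fun x hx => ?_).trans Finset.card_le_two
          obtain ⟨y, -, rfl⟩ := Finset.mem_map.1 hx
          by_cases h0 : (y : F) = 0
          · simp [h0]
          · simp [hall y (mem_fixedF.1 y.2) h0]
        have := card_fixedF_pow σ
        rw [hσ] at this
        nlinarith
      have hinv : σ a⁻¹ = a⁻¹ := by rw [map_inv₀, haσ]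
      let s : SL2 := ⟨!![a, 0; 0, a⁻¹], by simp [Matrix.det_fin_two, ha0]⟩
      have hne : a ≠ a⁻¹ := fun e => by
        have h1 : a * a = 1 := by nth_rw 2 [e]; exact mul_inv_cancel₀ ha0
        rcases mul_self_eq_one_iff.1 h1 with h' | h'
        · exact ha1 h'
        · exact ha1 (by rw [h', CharTwo.neg_eq])
      have hs : ∀ k : ℕ, (s ^ k).1 = !![a ^ k, 0; 0, a⁻¹ ^ k] := by
        intro k
        induction k with
        | zero => ext i j; fin_cases i <;> fin_cases j <;> simp
        | succ k ih =>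
          rw [pow_succ, Matrix.SpecialLinearGroup.coe_mul, ih]
          ext i j
          fin_cases i <;> fin_cases j <;> simp [s, Matrix.mul_apply, Fin.sum_univ_two, pow_succ]
      have hsq : s ^ (Fintype.card F - 1) = 1 := Subtype.ext (by
        rw [hs, FiniteField.pow_card_sub_one_eq_one a ha0, inv_pow, FiniteField.pow_card_sub_one_eq_one a ha0,
          inv_one]
        ext i j; fin_cases i <;> fin_cases j <;> simp)
      have hodd : Odd (Fintype.card F - 1) := by
        have := FiniteField.even_card_of_char_two (ringChar.eq F 2)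
        rw [Nat.odd_iff]; omega
      have ho : Odd (orderOf (inn s : MulAut PSL2)) :=
        hodd.of_dvd_nat (orderOf_dvd_of_pow_eq_one (by rw [← map_pow, hsq, map_one]))
      refine conj_not_mem (s := s) (by simp [s]) (isOfFinOrder_of_finite _) (by simpa [s] using sub_ne_zero.2 hne) ?_
      exact sub_norm_odd h hm (hH s) (hH yS) hφ
        (fld_inn_comm fun i j => by fin_cases i <;> fin_cases j <;> simp [s, haσ, hinv]).symm ho
        (inn_ne_one (Or.inr (Or.inr (by simpa [s] using hne)))) hcy.symm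
    · -- odd characteristic
      have hx : (inn xS : MulAut PSL2) ^ p = 1 := by
        rw [← map_pow, ← map_one (inn : SL2 →* MulAut PSL2)]
        congr 1
        have : ∀ k : ℕ, ((xS : SL2) ^ k).1 = !![1, (k : F); 0, 1] := by
          intro k
          induction k with
          | zero => ext i j; fin_cases i <;> fin_cases j <;> simp
          | succ k ih =>
            rw [pow_succ, Matrix.SpecialLinearGroup.coe_mul, ih]
            ext i j
            fin_cases i <;> fin_cases j <;> simp [Matrix.mul_apply, Fin.sum_univ_two, add_comm]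
        refine Subtype.ext ?_
        rw [this, CharP.cast_eq_zero]
        ext i j; fin_cases i <;> fin_cases j <;> simp
      have hx1 : (inn xS : MulAut PSL2) ≠ 1 := inn_ne_one (Or.inl (by simp))
      have ho : Odd (orderOf (inn xS : MulAut PSL2)) := by rw [orderOf_eq_prime hx hx1]; exact hpodd
      exact conj_not_mem (s := xS) (by simp) (isOfFinOrder_of_finite _) (by simp)
        (sub_norm_odd h hm (hH xS) (hH yS) hφ hcx.symm ho hx1 hcy.symm)
  · have hc := sub_cent_odd h (hH wS) hm (hH xS) orderOf_inn_wS hcw (by rw [hφ]; exact hodd) hφ1 hcx.symm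
    rw [commute_iff_eq, ← map_mul, ← map_mul, inn_eq_iff] at hc
    obtain ⟨c, hc⟩ := hc
    have e := congrFun (congrFun hc 0) 0
    simp [Matrix.mul_apply, Fin.sum_univ_two] at e

/-- A product of `k` conjugates of a non-square. -/
theorem isSquare_det_tw (hodd : Odd (Fintype.card F)) (σ : F ≃+* F) {A : GL (Fin 2) F}
    (hA : ¬ IsSquare ((GeneralLinearGroup.det A : Fˣ) : F)) :
    ∀ k : ℕ, IsSquare ((GeneralLinearGroup.det (tw σ A k) : Fˣ) : F) ↔ Even k := by
  intro k
  induction k with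
  | zero => simp [tw]
  | succ k ih =>
    have e : ((GeneralLinearGroup.det (tw σ A (k + 1)) : Fˣ) : F) =
        (GeneralLinearGroup.det A : F) * σ (GeneralLinearGroup.det (tw σ A k) : Fˣ) := by
      rw [tw, map_mul, Units.val_mul, GeneralLinearGroup.map_det]
      rfl
    rw [e, Nat.even_add_one, ← ih]
    constructor
    · intro hs hsq
      refine hA ?_
      obtain ⟨d, hd⟩ := hsq.map σ
      have hd0 : d ≠ 0 := by
        rintro rfl
        rw [mul_zero] at hd
        exact (Units.ne_zero _) ((map_eq_zero σ).1 hd)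
      refine isSquare_of_two hd0 ?_
      rw [pow_two, ← hd]
      exact hs
    · intro hns
      refine isSquare_mul_of_not hodd hA fun hs => hns ?_
      have := hs.map σ.symm
      rwa [RingEquiv.symm_apply_apply] at this

theorem units_isSquare {c : Fˣ} (h : IsSquare (c : F)) : IsSquare c := by
  obtain ⟨d, hd⟩ := h
  have hd0 : d ≠ 0 := by rintro rfl; exact c.ne_zero (by rw [hd, mul_zero])
  exact ⟨Units.mk0 d hd0, Units.ext hd⟩

/-- With a field automorphism of prime order only a diagonal-field element is left. -/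
theorem false_of_innd_fld (h : IsII ↥H) (hH : ∀ s : SL2, inn s ∈ H) (h5 : 5 ≤ Fintype.card F) {σ : F ≃+* F}
    {r : ℕ} (hr : r.Prime) (hσ : orderOf σ = r) {A : GL (Fin 2) F} (hm : (innd A * fld σ : MulAut PSL2) ∈ H) :
    False := by
  haveI := Fact.mk hr
  by_cases hsq : IsSquare (GeneralLinearGroup.det A)
  · obtain ⟨s, hs⟩ := exists_inn hsq
    rw [hs] at hm
    exact false_of_fld h hH h5 hr hσ (by simpa using mul_mem (inv_mem (hH s)) hm)
  have hAns : ¬ IsSquare ((GeneralLinearGroup.det A : Fˣ) : F) := fun e => hsq (units_isSquare e)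
  have hodd : Odd (Fintype.card F) := by
    rw [Nat.odd_iff]
    by_contra hev
    exact hAns (FiniteField.isSquare_of_char_two
      (FiniteField.even_card_iff_char_two.2 (by omega)) _)
  rcases hr.eq_two_or_odd' with rfl | hrodd
  swap
  · -- the power is an outer diagonal element
    have hB : (innd (tw σ A r) : MulAut PSL2) ∈ H := by
      have := pow_mem hm r
      rwa [innd_fld_pow, show σ ^ r = 1 by rw [← hσ, pow_orderOf_eq_one], map_one, mul_one] at this
    have hBns : ¬ IsSquare ((GeneralLinearGroup.det (tw σ A r) : Fˣ) : F) := fun e =>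
      Nat.not_even_iff_odd.2 hrodd ((isSquare_det_tw hodd σ hAns r).1 e)
    obtain ⟨s, hs⟩ := exists_inn (A := (tw σ A r)⁻¹ * A) (units_isSquare (by
      rw [map_mul, map_inv, Units.val_mul, Units.val_inv_eq_inv_val]
      exact isSquare_mul_of_not hodd (fun e => hBns (by simpa using e.inv)) hAns))
    refine false_of_fld h hH h5 hr hσ ?_
    have hA : (innd A : MulAut PSL2) = innd (tw σ A r) * inn s := by rw [← hs, ← map_mul, mul_inv_cancel_left]
    rw [hA] at hm
    have := mul_mem (inv_mem (mul_mem hB (hH s))) hm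
    rwa [inv_mul_cancel_left] at this
  have h2 : (2 : F) ≠ 0 := Cfsg.Lib.Linear.AutPSL.GForms.two_ne_zero' hodd
  obtain ⟨ν, hν⟩ := IsCyclic.exists_generator (α := Fˣ)
  have hνns : ¬ IsSquare (ν : F) := by
    intro hs
    obtain ⟨k, hk⟩ := mem_zpowers_iff.1 (hν (GeneralLinearGroup.det A))
    obtain ⟨d, hd⟩ := units_isSquare hs
    exact hsq ⟨d ^ k, by rw [← hk, hd, mul_zpow]⟩
  -- `δ σ ∈ H`
  obtain ⟨s, hs⟩ := exists_inn (A := A * (dg ν 1)⁻¹) (units_isSquare (by
    rw [map_mul, map_inv, det_dg, mul_one, Units.val_mul, Units.val_inv_eq_inv_val]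
    exact isSquare_mul_of_not hodd hAns (fun e => hνns (by simpa using e.inv))))
  have hg : (innd (dg ν 1) * fld σ : MulAut PSL2) ∈ H := by
    have hA : (innd A : MulAut PSL2) = inn s * innd (dg ν 1) := by rw [← hs, ← map_mul, inv_mul_cancel_right]
    rw [hA, mul_assoc] at hm
    have := mul_mem (inv_mem (hH s)) hm
    rwa [inv_mul_cancel_left] at this
  have hσ2 : σ * σ = 1 := by rw [← pow_two, ← hσ, pow_orderOf_eq_one]
  have hσσ : ∀ x, σ (σ x) = x := fun x => (RingEquiv.congr_fun hσ2 x : (σ * σ) x = x)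
  obtain ⟨g, hgdef⟩ : ∃ g, g = (innd (dg ν 1) * fld σ : MulAut PSL2) := ⟨_, rfl⟩
  obtain ⟨N, hN⟩ : ∃ N, N = ν * Units.map σ.toRingHom.toMonoidHom ν := ⟨_, rfl⟩
  have hσN : σ (N : F) = N := by
    rw [hN, Units.val_mul, map_mul]
    show σ (ν : F) * σ (σ (ν : F)) = (ν : F) * σ (ν : F)
    rw [hσσ, mul_comm]
  have hgg : g * g = innd (dg N 1) := by
    rw [hgdef, show innd (dg ν 1) * fld σ * (innd (dg ν 1) * fld σ) =
      innd (dg ν 1) * (fld σ * innd (dg ν 1)) * fld σ by simp only [mul_assoc], fld_mul_innd', sm_dg, map_one,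
      ← mul_assoc, ← map_mul, dg_mul, one_mul, mul_assoc, ← map_mul fld, hσ2, map_one, mul_one, hN]
  have hNeven : Even (orderOf N) := by
    by_contra hNo
    rw [Nat.not_even_iff_odd] at hNo
    obtain ⟨c, hc⟩ : ∃ c : F, c = (ν : F) ^ orderOf N := ⟨_, rfl⟩
    have hcns : ¬ IsSquare c := by
      obtain ⟨i, hi⟩ := hNo
      intro hcs
      refine hνns (isSquare_of_two (b := (ν : F) ^ i) (pow_ne_zero _ ν.ne_zero) ?_)
      rwa [← pow_mul, ← pow_succ', show i * 2 + 1 = orderOf N by omega, ← hc]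
    have hcc : c * σ c = 1 := by
      have := congrArg Units.val (pow_orderOf_eq_one N)
      rw [Units.val_pow_eq_pow_val, Units.val_one, congrArg Units.val hN, Units.val_mul, mul_pow] at this
      rw [hc, map_pow]
      exact this
    obtain ⟨w, hw⟩ : ∃ w : F, w + c * σ w ≠ 0 := by
      by_contra hall
      push Not at hall
      have h1 : c = -1 := by
        have := hall 1
        rw [map_one, mul_one] at this
        linear_combination this
      refine hr.ne_one (hσ ▸ orderOf_eq_one_iff.2 (RingEquiv.ext fun x => ?_))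
      have := hall x
      rw [h1] at this
      show σ x = x
      linear_combination -this
    refine hcns ?_
    have hσb : σ (w + c * σ w) ≠ 0 := fun e => hw ((map_eq_zero σ).1 e)
    have hkey : c * σ (w + c * σ w) = w + c * σ w := by
      rw [map_add, map_mul, hσσ]
      linear_combination w * hcc
    have hceq : c = (w + c * σ w) * (σ (w + c * σ w))⁻¹ := by
      rw [eq_mul_inv_iff_mul_eq₀ hσb, hkey]
    rw [hceq]
    by_cases hbs : IsSquare (w + c * σ w)
    · exact hbs.mul (hbs.map σ).inv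
    · refine isSquare_mul_of_not hodd hbs fun e => hbs ?_
      have := (show IsSquare (σ (w + c * σ w)) by simpa using e.inv).map σ.symm
      rwa [RingEquiv.symm_apply_apply] at this
  -- the involution of `zpowers g`
  obtain ⟨j, hj⟩ := hNeven
  have hj0 : 0 < orderOf N := orderOf_pos N
  have hNj : N ^ j = -1 := by
    have h1 : ((N ^ j : Fˣ) : F) * (N ^ j : Fˣ) = 1 := by
      rw [← Units.val_mul, ← pow_add, ← hj, pow_orderOf_eq_one, Units.val_one]
    rcases mul_self_eq_one_iff.1 h1 with h' | h'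
    · exfalso
      have := orderOf_le_of_pow_eq_one (by omega) (Units.ext h' : N ^ j = 1)
      omega
    · exact Units.ext h'
  obtain ⟨u, hu⟩ : ∃ u, u = (innd (dg (-1 : Fˣ) 1) : MulAut PSL2) := ⟨_, rfl⟩
  have hum : u ∈ zpowers g := by
    refine ⟨((2 * j : ℕ) : ℤ), ?_⟩
    show g ^ ((2 * j : ℕ) : ℤ) = u
    rw [zpow_natCast, pow_mul, pow_two, hgg, ← map_pow, dg_pow, one_pow, hNj, hu]
  have hu2 : orderOf u = 2 := by
    refine orderOf_eq_prime ?_ ?_
    · rw [hu, ← map_pow, dg_pow, one_pow, neg_one_sq, dg_one, map_one]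
    · rw [hu, Ne, innd_eq_one_iff le_rfl]
      rintro ⟨c, hc⟩
      have e0 := congrArg (fun M : GL (Fin 2) F => M.val 0 0) hc
      have e1 := congrArg (fun M : GL (Fin 2) F => M.val 1 1) hc
      simp [dg_val] at e0 e1
      exact h2 (by linear_combination e1 - e0)
  have hgev : Even (orderOf g) := by
    have := orderOf_dvd_of_mem_zpowers hum
    rw [hu2] at this
    exact even_iff_two_dvd.2 this
  have hyu : Commute (inn wS) u := by
    rw [hu, commute_iff_eq, inn_def, ← map_mul, ← map_mul, innd_eq_innd le_rfl]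
    refine ⟨-1, Units.ext ?_⟩
    rw [Units.val_mul, Units.val_mul, Units.val_mul, sc_val, dg_val]
    ext i k
    fin_cases i <;> fin_cases k <;> simp [Matrix.mul_apply, Fin.sum_univ_two]
  have hmem := sub_norm_root h (hgdef ▸ hg : g ∈ H) (hH wS) hgev hum hu2 hyu
  have hconj : inn wS * g * (inn wS)⁻¹ = (innd (dg 1 ν) * fld σ : MulAut PSL2) := by
    have hcw : Commute (fld σ : MulAut PSL2) (inn (wS⁻¹)) := by
      rw [map_inv]
      exact (fld_inn_comm fun i k => by fin_cases i <;> fin_cases k <;> simp).inv_right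
    rw [hgdef, ← map_inv, mul_assoc, mul_assoc, hcw.eq, ← mul_assoc, ← mul_assoc, inn_def, inn_def, ← map_mul,
      ← map_mul]
    congr 2
    rw [map_inv, mul_inv_eq_iff_eq_mul]
    refine Units.ext ?_
    rw [Units.val_mul, Units.val_mul, dg_val, dg_val]
    ext i k
    fin_cases i <;> fin_cases k <;>
      simp [Matrix.mul_apply, Fin.sum_univ_two]
  rw [hconj] at hmem
  obtain ⟨k, hk⟩ :=
    (mem_powers_iff_mem_zpowers (x := g)).2 hmem
  simp only at hk
  rcases Nat.even_or_odd' k with ⟨i, rfl | rfl⟩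
  · rw [pow_mul, pow_two, hgg, ← map_pow] at hk
    have := fld_eq_of_eq (g := dg N 1 ^ i) (σ := (1 : F ≃+* F)) le_rfl (by simpa using hk)
    rw [← this, orderOf_one] at hσ
    omega
  · rw [pow_succ, pow_mul, pow_two, hgg, hgdef, ← mul_assoc, ← map_pow, ← map_mul, mul_left_inj, dg_pow, one_pow,
      dg_mul, one_mul, innd_eq_innd le_rfl] at hk
    obtain ⟨c, hc⟩ := hk
    have e0 := congrArg (fun M : GL (Fin 2) F => M.val 0 0) hc
    have e1 := congrArg (fun M : GL (Fin 2) F => M.val 1 1) hc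
    simp [dg_val] at e0 e1
    have hνν : σ (ν : F) * σ ν = ν * ν := by
      have e : (N : F) ^ i * ν * ν = 1 := by
        linear_combination ν.val * e0 - e1
      have e' := congrArg σ e
      rw [map_mul, map_mul, map_pow, hσN, map_one, ← e] at e'
      have hN0 : (N : F) ^ i ≠ 0 := pow_ne_zero _ N.ne_zero
      exact mul_left_cancel₀ hN0 (by linear_combination e')
    have hall : ∀ x : F, x ≠ 0 → σ x = x ∨ σ x = -x := by
      intro x hx
      obtain ⟨m, hm⟩ := (mem_powers_iff_mem_zpowers (G := Fˣ)).2 (hν (Units.mk0 x hx))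
      have hm' : (ν : F) ^ m = x := by rw [← Units.val_pow_eq_pow_val]; exact congrArg Units.val hm
      rw [← hm', map_pow]
      rcases mul_self_eq_mul_self_iff.1 hνν with e | e
      · exact Or.inl (by rw [e])
      · rcases Nat.even_or_odd m with hm2 | hm2
        · exact Or.inl (by rw [e, hm2.neg_pow])
        · exact Or.inr (by rw [e, hm2.neg_pow])
    have hνneg : σ (ν : F) = -(ν : F) := by
      rcases mul_self_eq_mul_self_iff.1 hνν with e | e
      · exfalso
        refine hr.ne_one (hσ ▸ orderOf_eq_one_iff.2 (RingEquiv.ext fun x => ?_))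
        show σ x = x
        rcases eq_or_ne x 0 with rfl | hx
        · exact map_zero σ
        obtain ⟨m, hm⟩ := (mem_powers_iff_mem_zpowers (G := Fˣ)).2 (hν (Units.mk0 x hx))
        have hm' : (ν : F) ^ m = x := by rw [← Units.val_pow_eq_pow_val]; exact congrArg Units.val hm
        rw [← hm', map_pow, e]
      · exact e
    have hν1 : (1 : F) + ν ≠ 0 := fun e => by
      have e' : (ν : F) = -1 := by linear_combination e
      rw [e', map_neg, map_one] at hνneg
      exact h2 (by linear_combination -hνneg)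
    rcases hall _ hν1 with e | e <;> rw [map_add, map_one, hνneg] at e
    · exact mul_ne_zero h2 ν.ne_zero (by linear_combination -e)
    · exact h2 (by linear_combination e)

/-- All elements of `H` are inner-diagonal. -/
theorem le_innd_range (h : IsII ↥H) (hH : ∀ s : SL2, inn s ∈ H) (h5 : 5 ≤ Fintype.card F) :
    H ≤ (innd : GL (Fin 2) F →* MulAut PSL2).range := by
  show ∀ β : MulAut PSL2, β ∈ H → β ∈ (innd : GL (Fin 2) F →* MulAut PSL2).range
  intro β hβ
  obtain ⟨A, σ, rfl⟩ := Cfsg.Lib.GW.PGL.exists_decomp_two β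
  by_cases h1 : σ = 1
  · exact ⟨A, by rw [h1, map_one, mul_one]⟩
  exfalso
  obtain ⟨p, hp⟩ := CharP.exists F
  haveI : Fact p.Prime := ⟨CharP.char_is_prime F p⟩
  haveI : Finite (F ≃+* F) := Finite.of_injective _ DFunLike.coe_injective
  obtain ⟨r, hr, hd⟩ := Nat.exists_prime_and_dvd (mt orderOf_eq_one_iff.1 h1)
  have hσr : orderOf (σ ^ (orderOf σ / r)) = r := by
    rw [orderOf_pow_of_dvd (Nat.div_pos (Nat.le_of_dvd (orderOf_pos σ) hd) hr.pos).ne'
      (Nat.div_dvd_of_dvd hd), Nat.div_div_self hd (orderOf_pos σ).ne']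
  have := pow_mem hβ (orderOf σ / r)
  rw [innd_fld_pow] at this
  exact false_of_innd_fld h hH h5 hr hσr this

end Cfsg.Lib.IIGroups
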