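import Cfsg.Agent.Lib.IIGroups.Simple
import Cfsg.Agent.Lib.IIGroups.Field
import Cfsg.Agent.Lib.CIT.PSLList
import Cfsg.Agent.Lib.CpClosed.AbelianTwo.Small
import Cfsg.Agent.S0205

/-!
# Groups with `IsII` and no solvable normal subgroup

They are `PSL₂(q)` or `PGL₂(q)`.
-/

set_option autoImplicit false
set_option linter.style.haveILetI false

namespace Cfsg.Lib.IIGroups

open Subgroup Matrix
open Cfsg.Lib

universe u

variable {G : Type u} [Group G] [Finite G]

theorem IsII.solvable_centralizer (h : IsII G) {t : G} (ht : orderOf t = 2) :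
    Group.IsSolvable ↥(centralizer ({t} : Set G)) := by
  obtain ⟨O, hO⟩ : ∃ O, O = (oddPart h ht).subgroupOf (centralizer ({t} : Set G)) := ⟨_, rfl⟩
  haveI hn : O.Normal := by
    rw [hO]
    exact ⟨fun a ha c => h.oddPart_conj ht c c.2 a ha⟩
  haveI : Group.IsSolvable ↥O := by
    refine Cfsg.Agent.S0205.result ?_
    rw [hO, Nat.card_congr (subgroupOfEquivOfLe
      (fun x hx => mem_cent.2 hx.1 : oddPart h ht ≤ centralizer ({t} : Set G))).toEquiv]
    exact h.odd_card_oddPart ht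
  haveI : Fact (Nat.Prime 2) := ⟨Nat.prime_two⟩
  have hp : IsPGroup 2 (↥(centralizer ({t} : Set G)) ⧸ O) := by
    intro q
    obtain ⟨x, rfl⟩ := QuotientGroup.mk_surjective q
    obtain ⟨k, m, hm, hkm⟩ := Nat.exists_eq_two_pow_mul_odd (orderOf_pos x).ne'
    refine ⟨k, ?_⟩
    rw [← QuotientGroup.mk_pow, QuotientGroup.eq_one_iff, hO, mem_subgroupOf, h.mem_oddPart ht]
    refine ⟨mem_cent.1 (x ^ 2 ^ k).2, ?_⟩
    rw [Subgroup.orderOf_coe, orderOf_pow_of_dvd (pow_ne_zero _ two_ne_zero) ⟨m, hkm⟩, hkm,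
      Nat.mul_div_cancel_left _ (Nat.two_pow_pos _)]
    exact hm
  haveI := hp.isNilpotent
  exact Group.isSolvable_of_ker_le_range O.subtype (QuotientGroup.mk' O)
    (by rw [QuotientGroup.ker_mk', range_subtype])

omit [Finite G] in
theorem isSolvable_mono {H K : Subgroup G} (hle : H ≤ K) (hK : Group.IsSolvable ↥K) : Group.IsSolvable ↥H :=
  haveI := hK
  Group.isSolvable_of_isSolvable_injective (inclusion_injective hle)

/-- A simple normal subgroup with trivial centraliser. -/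
theorem exists_simple_normal (h : IsII G) [Nontrivial G]
    (hss : ∀ N : Subgroup G, N.Normal → Group.IsSolvable ↥N → N = ⊥) :
    ∃ T : Subgroup G, T.Normal ∧ IsSimpleGroup ↥T ∧ ¬ IsMulCommutative ↥T ∧ centralizer (T : Set G) = ⊥ := by
  haveI : Finite (Subgroup G) := Finite.of_injective (fun H => (H : Set G)) SetLike.coe_injective
  obtain ⟨N, hN⟩ := (Set.toFinite {N : Subgroup G | N.Normal ∧ N ≠ ⊥}).exists_minimal
    ⟨⊤, inferInstance, top_ne_bot⟩
  haveI hNn : N.Normal := hN.1.1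
  obtain ⟨T, hT⟩ := (Set.toFinite {T : Subgroup G | T ≤ N ∧ T ≠ ⊥ ∧ N ≤ normalizer (T : Set G)}).exists_minimal
    ⟨N, le_rfl, hN.1.2, le_normalizer⟩
  obtain ⟨hTN, hT0, hNT⟩ := hT.1
  have hmin : ∀ K : Subgroup G, K ≤ T → K ≠ ⊥ → N ≤ normalizer (K : Set G) → K = T := fun K hKT hK0 hKn =>
    le_antisymm hKT (hT.2 ⟨hKT.trans hTN, hK0, hKn⟩ hKT)
  -- conjugates of `T`
  have hconj : ∀ g : G, T.map (MulAut.conj g).toMonoidHom ≤ N ∧
      N ≤ normalizer (T.map (MulAut.conj g).toMonoidHom : Set G) := by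
    intro g
    refine ⟨?_, fun n hn => ?_⟩
    · rintro _ ⟨x, hx, rfl⟩
      exact hNn.conj_mem x (hTN hx) g
    · have hm : g⁻¹ * n * g ∈ normalizer (T : Set G) := hNT (by simpa using hNn.conj_mem n hn g⁻¹)
      rw [mem_normalizer_iff]
      intro x
      simp only [mem_map_equiv, MulAut.conj_symm_apply]
      rw [mem_normalizer_iff.1 hm]
      exact iff_of_eq (congrArg (· ∈ T) (by group))
  have hcomm : ∀ g : G, T.map (MulAut.conj g).toMonoidHom = T ∨
      ∀ x ∈ T, ∀ y ∈ T.map (MulAut.conj g).toMonoidHom, Commute x y := by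
    intro g
    obtain ⟨h1, h2⟩ := hconj g
    by_cases hi : T ⊓ T.map (MulAut.conj g).toMonoidHom = ⊥
    · refine Or.inr fun x hx y hy => ?_
      have ha : x * y * x⁻¹ * y⁻¹ ∈ T ⊓ T.map (MulAut.conj g).toMonoidHom := by
        refine Subgroup.mem_inf.2 ⟨?_, ?_⟩
        · rw [mul_assoc, mul_assoc, ← mul_assoc y]
          exact mul_mem hx ((mem_normalizer_iff.1 (hNT (h1 hy)) _).1 (inv_mem hx))
        · exact mul_mem ((mem_normalizer_iff.1 (h2 (hTN hx)) y).1 hy) (inv_mem hy)
      rw [hi, mem_bot, mul_inv_eq_one, mul_inv_eq_iff_eq_mul] at ha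
      exact ha
    · refine Or.inl (Eq.symm ?_)
      have he := hmin _ inf_le_left hi fun n hn => mem_normalizer_iff.2 fun x => by
        simp only [Subgroup.mem_inf]
        exact and_congr (mem_normalizer_iff.1 (hNT hn) x) (mem_normalizer_iff.1 (h2 hn) x)
      refine eq_of_le_of_card_ge (inf_eq_left.1 he) ?_
      rw [Nat.card_congr (T.equivMapOfInjective (MulAut.conj g).toMonoidHom (MulAut.conj g).injective).toEquiv]
  -- `T` is not abelian
  have hTab : ¬ ∀ x ∈ T, ∀ y ∈ T, Commute x y := by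
    intro hab
    let S : Set G := ⋃ g : G, (T.map (MulAut.conj g).toMonoidHom : Set G)
    have hmem : ∀ g : G, ∀ x ∈ T, g * x * g⁻¹ ∈ S := fun g x hx =>
      Set.mem_iUnion.2 ⟨g, x, hx, rfl⟩
    have hS : ∀ a ∈ S, ∀ b ∈ S, a * b = b * a := by
      intro a ha b hb
      obtain ⟨g, x, hx, rfl⟩ := Set.mem_iUnion.1 ha
      obtain ⟨k, y, hy, rfl⟩ := Set.mem_iUnion.1 hb
      show Commute (g * x * g⁻¹) (k * y * k⁻¹)
      have hy' : g⁻¹ * k * y * (g⁻¹ * k)⁻¹ ∈ T.map (MulAut.conj (g⁻¹ * k)).toMonoidHom := ⟨y, hy, rfl⟩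
      have hc : Commute x (g⁻¹ * k * y * (g⁻¹ * k)⁻¹) := by
        rcases hcomm (g⁻¹ * k) with e | e
        · exact hab x hx _ (e ▸ hy')
        · exact e x hx _ hy'
      have := hc.map (MulAut.conj g).toMonoidHom
      simp only [MulEquiv.coe_toMonoidHom, MulAut.conj_apply, _root_.mul_inv_rev, inv_inv] at this
      rwa [show g * (g⁻¹ * k * y * (k⁻¹ * g)) * g⁻¹ = k * y * k⁻¹ by group] at this
    haveI := isMulCommutative_closure hS
    have hCn : (closure S).Normal := ⟨fun n hn g => by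
      induction hn using closure_induction with
      | mem x hx =>
        obtain ⟨k, y, hy, rfl⟩ := Set.mem_iUnion.1 hx
        refine subset_closure (?_ : g * (k * y * k⁻¹) * g⁻¹ ∈ S)
        rw [show g * (k * y * k⁻¹) * g⁻¹ = g * k * y * (g * k)⁻¹ by group]
        exact hmem _ _ hy
      | one => simp
      | mul x y _ _ hx hy => rw [show g * (x * y) * g⁻¹ = (g * x * g⁻¹) * (g * y * g⁻¹) by group]; exact mul_mem hx hy
      | inv x _ hx => rw [show g * x⁻¹ * g⁻¹ = (g * x * g⁻¹)⁻¹ by group]; exact inv_mem hx⟩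
    have hbot := hss _ hCn (Group.isSolvable_of_comm fun a b =>
      (inferInstance : IsMulCommutative ↥(closure S)).is_comm.comm a b)
    refine hT0 (eq_bot_iff.2 fun x hx => ?_)
    rw [← hbot]
    exact subset_closure (by simpa using hmem 1 x hx)
  have hTns : ¬ Group.IsSolvable ↥T := by
    intro hs
    have hK : N ≤ normalizer ((⁅T, T⁆ : Subgroup G) : Set G) := fun n hn => by
      have e := mem_normalizer_iff_map_conj_eq.1 (hNT hn)
      rw [mem_normalizer_iff_map_conj_eq, map_commutator, e]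
    rcases eq_or_ne ⁅T, T⁆ ⊥ with e | e
    · refine hTab fun x hx y hy => ?_
      rw [commutator_eq_bot_iff_le_centralizer] at e
      exact ((mem_centralizer_iff.1 (e hy)) x hx)
    · haveI := hs
      haveI : Nontrivial ↥T := (Subgroup.nontrivial_iff_ne_bot T).2 hT0
      have e1 := hmin _ (commutator_le_self T) e hK
      refine (IsSolvable.commutator_lt_top_of_nontrivial ↥T).ne ?_
      refine map_injective T.subtype_injective ?_
      rw [map_subtype_commutator, ← MonoidHom.range_eq_map, range_subtype, e1]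
  obtain ⟨t, htT, ht⟩ : ∃ t ∈ T, orderOf t = 2 := by
    have he : 2 ∣ Nat.card ↥T := by
      rw [← even_iff_two_dvd, ← Nat.not_odd_iff_even]
      exact fun ho => hTns (Cfsg.Agent.S0205.result ho)
    haveI : Fact (Nat.Prime 2) := ⟨Nat.prime_two⟩
    obtain ⟨x, hx⟩ := exists_prime_orderOf_dvd_card' 2 he
    exact ⟨x, x.2, (orderOf_coe x).trans hx⟩
  -- `T` is normal
  have hTn : T.Normal := by
    refine ⟨fun x hx g => ?_⟩
    rcases hcomm g with e | e
    · rw [← e]
      exact ⟨x, hx, rfl⟩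
    · refine absurd ?_ hTns
      haveI : Group.IsSolvable ↥(T.map (MulAut.conj g).toMonoidHom) :=
        isSolvable_mono (fun y hy => mem_cent.2 (e t htT y hy).symm) (h.solvable_centralizer ht)
      exact Group.isSolvable_of_isSolvable_injective
        (f := (T.equivMapOfInjective (MulAut.conj g).toMonoidHom (MulAut.conj g).injective).toMonoidHom) (MulEquiv.injective _)
  have hTeq : T = N := le_antisymm hTN (hN.2 ⟨hTn, hT0⟩ hTN)
  refine ⟨T, hTn, ?_, fun hc => hTab fun x hx y hy =>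
    congrArg Subtype.val (hc.is_comm.comm ⟨x, hx⟩ ⟨y, hy⟩), ?_⟩
  · haveI : Nontrivial ↥T := (Subgroup.nontrivial_iff_ne_bot T).2 hT0
    refine ⟨fun M hM => ?_⟩
    rcases eq_or_ne M ⊥ with e | e
    · exact Or.inl e
    refine Or.inr (map_injective T.subtype_injective ?_)
    rw [← MonoidHom.range_eq_map, range_subtype]
    refine hmin _ (map_subtype_le M) ((map_eq_bot_iff_of_injective M T.subtype_injective).not.2 e) ?_
    intro n hn
    rw [← hTeq] at hn
    rw [mem_normalizer_iff]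
    intro x
    have key : ∀ m ∈ T, ∀ z ∈ M.map T.subtype, m * z * m⁻¹ ∈ M.map T.subtype := by
      rintro m hm _ ⟨z, hz, rfl⟩
      exact ⟨_, hM.conj_mem z hz ⟨m, hm⟩, rfl⟩
    refine ⟨key n hn x, fun hx => ?_⟩
    have := key n⁻¹ (inv_mem hn) _ hx
    rwa [show n⁻¹ * (n * x * n⁻¹) * n⁻¹⁻¹ = x by group] at this
  · haveI := hTn
    refine hss _ (normal_centralizer) (isSolvable_mono ?_ (h.solvable_centralizer ht))
    exact fun x hx => mem_cent.2 ((mem_centralizer_iff.1 hx) t htT).symm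

/-- Groups with `IsII` and a normal `PSL₂(q)` with trivial centraliser. -/
theorem almost_simple (h : IsII G) {T : Subgroup G} [T.Normal] {F : Type} [Field F] [Fintype F]
    (h5 : 5 ≤ Fintype.card F) (e : T ≃* Matrix.ProjectiveSpecialLinearGroup (Fin 2) F)
    (hC : centralizer (T : Set G) = ⊥) :
    Nonempty (G ≃* Matrix.ProjectiveSpecialLinearGroup (Fin 2) F) ∨
      Nonempty (G ≃* Matrix.ProjGenLinGroup (Fin 2) F) := by
  have hinj := GW.PGL.autHom_injective e hC
  haveI : Finite ↥(GW.PGL.autHom e).range := Finite.of_equiv G (MonoidHom.ofInjective hinj).toEquiv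
  have hR : IsII ↥(GW.PGL.autHom e).range := h.of_equiv (MonoidHom.ofInjective hinj)
  have hin : ∀ s, inn s ∈ (GW.PGL.autHom e).range := fun s => by
    refine ⟨(e.symm (QuotientGroup.mk s) : ↥T), ?_⟩
    rw [GW.PGL.autHom_mem e (e.symm (QuotientGroup.mk s)).2, Subtype.coe_eta, e.apply_symm_apply,
      Linear.AutPSL.conj_mk]
    rfl
  have hd : GW.PGL.diag e = ⊤ := eq_top_iff.2 fun x _ => le_innd_range hR hin h5 ⟨x, rfl⟩
  rcases Nat.even_or_odd (Fintype.card F) with hev | hodd
  · refine Or.inl ⟨(topEquiv.symm.trans (MulEquiv.subgroupCongr (?_ : ⊤ = T))).trans e⟩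
    refine le_antisymm (fun x _ => ?_) le_top
    obtain ⟨A, hA⟩ : GW.PGL.autHom e x ∈ _ := le_innd_range hR hin h5 ⟨x, rfl⟩
    obtain ⟨s, hs⟩ := exists_inn (A := A) (units_isSquare (FiniteField.isSquare_of_char_two
      (FiniteField.even_card_iff_char_two.2 (Nat.even_iff.1 hev)) _))
    have hx : x = ((e.symm (QuotientGroup.mk s) : ↥T) : G) := by
      refine hinj ?_
      rw [GW.PGL.autHom_mem e (e.symm (QuotientGroup.mk s)).2, Subtype.coe_eta, e.apply_symm_apply,
        Linear.AutPSL.conj_mk, ← hA, hs]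
      rfl
    rw [hx]
    exact (e.symm _).2
  · exact GW.PGL.psl_or_pgl e hodd hC hd

/-- The classification. -/
theorem classify (h : IsII G) [Nontrivial G] (hss : ∀ N : Subgroup G, N.Normal → Group.IsSolvable ↥N → N = ⊥) :
    ∃ (F : Type) (_ : Field F) (_ : Fintype F), 3 < Fintype.card F ∧
      (Nonempty (G ≃* Matrix.ProjectiveSpecialLinearGroup (Fin 2) F) ∨
        Nonempty (G ≃* Matrix.ProjGenLinGroup (Fin 2) F)) := by
  obtain ⟨T, hTn, hTs, hna, hC⟩ := exists_simple_normal h hss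
  obtain ⟨F, i, j, ⟨e⟩⟩ := simple_case (h.subgroup T) hna
  have h4 := CIT.four_le_of_iso hna e
  rcases eq_or_ne (Fintype.card F) 4 with hF | hF
  · haveI : Fact (Nat.Prime 5) := ⟨by norm_num⟩
    obtain ⟨e5⟩ := CpClosed.AbelianTwo.psl_two_four_equiv hF
    exact ⟨ZMod 5, inferInstance, inferInstance, by rw [ZMod.card]; omega,
      almost_simple h (by rw [ZMod.card]) (e.trans e5) hC⟩
  · exact ⟨F, i, j, by omega, almost_simple h (by omega) e hC⟩

end Cfsg.Lib.IIGroups
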