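import Cfsg.Agent.Lib.Invol.Basic
import Mathlib.GroupTheory.PGroup

/-!
# Groups in which cyclic subgroups of even order have a single normaliser

`IsII G`: if `g` has even order, then all the non-trivial subgroups of `zpowers g` have the same
normaliser. The odd part of an involution centraliser is then a normal subgroup all whose cyclic
subgroups are normal in the centraliser.
-/

set_option autoImplicit false

namespace Cfsg.Lib.IIGroups

open Subgroup

universe u

variable {G : Type u} [Group G]

/-- All non-trivial subgroups of a cyclic subgroup of even order have the same normaliser. -/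
def IsII (G : Type u) [Group G] : Prop :=
  ∀ g : G, Even (orderOf g) → ∀ y ∈ zpowers g, y ≠ 1 →
    normalizer (zpowers g : Set G) = normalizer (zpowers y : Set G)

theorem isII_of_hyp (h : ∀ X : Subgroup G, IsCyclic ↥X → Even (Nat.card ↥X) → ∀ Y : Subgroup G, Y ≤ X → Y ≠ ⊥ →
    normalizer (X : Set G) = normalizer (Y : Set G)) : IsII G := fun g hg y hy hy1 =>
  h (zpowers g) inferInstance (by rwa [Nat.card_zpowers]) (zpowers y) (zpowers_le.2 hy)
    (mt zpowers_eq_bot.1 hy1)

theorem mem_cent {x t : G} : x ∈ centralizer ({t} : Set G) ↔ Commute x t :=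
  mem_centralizer_singleton_iff

theorem IsII.of_injective (h : IsII G) {H : Type*} [Group H] [Finite H] (f : H →* G)
    (hf : Function.Injective f) : IsII H := by
  have key : ∀ a x : H, x ∈ normalizer (zpowers a : Set H) ↔ f x ∈ normalizer (zpowers (f a) : Set G) := by
    intro a x
    rw [Subgroup.mem_normalizer_iff_map_conj_eq, Subgroup.mem_normalizer_iff_map_conj_eq]
    rw [MonoidHom.map_zpowers, MonoidHom.map_zpowers]
    constructor <;> intro e
    · have := congrArg (Subgroup.map f) e
      simpa [MonoidHom.map_zpowers] using this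
    · refine Subgroup.map_injective hf ?_
      simpa [MonoidHom.map_zpowers] using e
  intro g hg y hy hy1
  ext x
  rw [key g x, key y x, h (f g) (by rwa [orderOf_injective f hf]) (f y)
    (by obtain ⟨k, rfl⟩ := mem_zpowers_iff.1 hy; exact ⟨k, (map_zpow f g k).symm⟩)
    fun e => hy1 (hf (by rw [e, map_one]))]

theorem IsII.subgroup [Finite G] (h : IsII G) (H : Subgroup G) : IsII ↥H :=
  h.of_injective H.subtype H.subtype_injective

theorem IsII.of_equiv [Finite G] (h : IsII G) {H : Type*} [Group H] (e : G ≃* H) : IsII H :=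
  haveI : Finite H := Finite.of_equiv G e.toEquiv
  h.of_injective e.symm.toMonoidHom e.symm.injective

variable [Finite G]

theorem IsII.normalizer_invol {t : G} (ht : orderOf t = 2) :
    normalizer (zpowers t : Set G) = centralizer ({t} : Set G) := by
  ext x
  rw [Subgroup.mem_normalizer_iff_map_conj_eq, MonoidHom.map_zpowers, mem_cent]
  constructor
  · intro e
    have : x * t * x⁻¹ ∈ zpowers t := by
      rw [← e]; exact mem_zpowers _
    obtain ⟨k, hk⟩ := mem_zpowers_iff.1 this
    rcases Int.even_or_odd k with ⟨j, rfl⟩ | ⟨j, rfl⟩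
    · rw [zpow_add, ← (Commute.refl t).mul_zpow, Invol.inv_mul_self ht, one_zpow] at hk
      exact absurd (conj_eq_one_iff.1 hk.symm) (Invol.ne_one ht)
    · rw [zpow_add, two_mul, zpow_add, ← (Commute.refl t).mul_zpow, Invol.inv_mul_self ht, one_zpow, one_mul,
        zpow_one] at hk
      exact mul_inv_eq_iff_eq_mul.1 hk.symm
  · intro e
    simp [e.eq]

omit [Finite G] in
/-- A power of an element of even order is an involution. -/
theorem exists_root {g : G} (hg : Even (orderOf g)) (hg0 : orderOf g ≠ 0) :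
    ∃ r ∈ zpowers g, orderOf r = 2 := by
  refine ⟨g ^ (orderOf g / 2), pow_mem (mem_zpowers g) _, ?_⟩
  obtain ⟨k, hk⟩ := hg
  have h2 : orderOf g / 2 = k := by omega
  rw [h2, orderOf_pow_of_dvd (by omega) ⟨2, by omega⟩, hk, ← two_mul, Nat.mul_div_cancel _ (by omega)]

variable (h : IsII G)
include h

/-- If `r` is the involution in `zpowers g`, every non-trivial power of `g` has normaliser `C(r)`. -/
theorem IsII.norm_root {g r : G} (hg : Even (orderOf g)) (hr : r ∈ zpowers g) (hr2 : orderOf r = 2)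
    {y : G} (hy : y ∈ zpowers g) (hy1 : y ≠ 1) :
    normalizer (zpowers y : Set G) = centralizer ({r} : Set G) := by
  rw [← h g hg y hy hy1, h g hg r hr (Invol.ne_one hr2), normalizer_invol hr2]

theorem IsII.norm_root_self {g r : G} (hg : Even (orderOf g)) (hr : r ∈ zpowers g) (hr2 : orderOf r = 2) :
    normalizer (zpowers g : Set G) = centralizer ({r} : Set G) :=
  h.norm_root hg hr hr2 (mem_zpowers g) fun e => by rw [e, orderOf_one] at hg; exact Nat.not_even_one hg

/-- A non-trivial element of odd order commuting with an involution `t` generates a subgroup with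
normaliser `C(t)`. -/
theorem IsII.norm_odd {t x : G} (ht : orderOf t = 2) (hx : Commute x t) (ho : Odd (orderOf x)) (hx1 : x ≠ 1) :
    normalizer (zpowers x : Set G) = centralizer ({t} : Set G) := by
  have hord : orderOf (x * t) = orderOf x * 2 := by
    rw [hx.orderOf_mul_eq_mul_orderOf_of_coprime (by rw [ht]; exact Nat.coprime_two_right.2 ho), ht]
  have hev : Even (orderOf (x * t)) := by rw [hord]; exact even_two.mul_left _
  have htm : t ∈ zpowers (x * t) := by
    obtain ⟨k, hk⟩ := ho
    refine ⟨(orderOf x : ℤ), ?_⟩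
    show (x * t) ^ (orderOf x : ℤ) = t
    rw [zpow_natCast, hx.mul_pow, pow_orderOf_eq_one, one_mul, hk, pow_succ, pow_mul, pow_two,
      Invol.inv_mul_self ht, one_pow, one_mul]
  refine h.norm_root hev htm ht ?_ hx1
  have hm := mul_mem (mem_zpowers (x * t)) (inv_mem htm)
  rwa [mul_inv_cancel_right] at hm

theorem IsII.centralizer_odd_le {t x : G} (ht : orderOf t = 2) (hx : Commute x t) (ho : Odd (orderOf x))
    (hx1 : x ≠ 1) : centralizer ({x} : Set G) ≤ centralizer ({t} : Set G) := fun y hy => by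
  rw [← h.norm_odd ht hx ho hx1, Subgroup.mem_normalizer_iff_map_conj_eq, MonoidHom.map_zpowers]
  simp [(mem_cent.1 hy).eq]

omit h in
theorem odd_orderOf_mul {C : Subgroup G} {x y : G} (hxn : C ≤ normalizer (zpowers x : Set G))
    (hy : y ∈ C) (hx : Odd (orderOf x)) (ho : Odd (orderOf y)) : Odd (orderOf (x * y)) := by
  have key : ∀ k : ℕ, (x * y) ^ k * (y ^ k)⁻¹ ∈ zpowers x := by
    intro k
    induction k with
    | zero => simp
    | succ k ih =>
      have hm : y ^ k * x * (y ^ k)⁻¹ ∈ zpowers x := (Subgroup.mem_normalizer_iff.1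
        (hxn (pow_mem hy k)) x).1 (mem_zpowers x)
      have : (x * y) ^ (k + 1) * (y ^ (k + 1))⁻¹ =
          ((x * y) ^ k * (y ^ k)⁻¹) * (y ^ k * x * (y ^ k)⁻¹) := by
        rw [pow_succ, pow_succ]; group
      rw [this]
      exact mul_mem ih hm
  have h1 := key (orderOf y)
  rw [pow_orderOf_eq_one, inv_one, mul_one] at h1
  obtain ⟨j, hj⟩ := mem_zpowers_iff.1 h1
  have h2 : (x * y) ^ (orderOf y * orderOf x) = 1 := by
    rw [pow_mul, ← hj, ← zpow_natCast, ← zpow_mul, mul_comm, zpow_mul, zpow_natCast, pow_orderOf_eq_one,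
      one_zpow]
  exact (ho.mul hx).of_dvd_nat (orderOf_dvd_of_pow_eq_one h2)

/-- The elements of odd order commuting with an involution `t`. -/
def oddPart {t : G} (ht : orderOf t = 2) : Subgroup G where
  carrier := {x | Commute x t ∧ Odd (orderOf x)}
  one_mem' := ⟨Commute.one_left t, by simp⟩
  mul_mem' := by
    rintro x y ⟨hx, hxo⟩ ⟨hy, hyo⟩
    refine ⟨hx.mul_left hy, ?_⟩
    rcases eq_or_ne x 1 with rfl | hx1
    · rwa [one_mul]
    · exact odd_orderOf_mul (h.norm_odd ht hx hxo hx1).ge (mem_cent.2 hy) hxo hyo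
  inv_mem' := fun {x} hx => ⟨hx.1.inv_left, by rw [orderOf_inv]; exact hx.2⟩

theorem IsII.mem_oddPart {t x : G} (ht : orderOf t = 2) :
    x ∈ oddPart h ht ↔ Commute x t ∧ Odd (orderOf x) := Iff.rfl

theorem IsII.odd_card_oddPart {t : G} (ht : orderOf t = 2) : Odd (Nat.card (oddPart h ht)) := by
  by_contra hne
  obtain ⟨x, hx⟩ := exists_prime_orderOf_dvd_card' 2 (Nat.not_odd_iff_even.1 hne).two_dvd
  have := x.2.2
  rw [Subgroup.orderOf_coe, hx] at this
  exact Nat.not_odd_iff_even.2 even_two this

/-- `t` has a centraliser which is not a 2-group. -/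
def IsGood (t : G) : Prop :=
  orderOf t = 2 ∧ ∃ a : G, Commute a t ∧ Odd (orderOf a) ∧ a ≠ 1

omit h in
theorem not_good {t : G} (ht : orderOf t = 2) (hn : ¬ IsGood t) :
    IsPGroup 2 ↥(centralizer ({t} : Set G)) := by
  intro x
  obtain ⟨k, m, hm, hkm⟩ := Nat.exists_eq_two_pow_mul_odd (orderOf_pos x).ne'
  refine ⟨k, ?_⟩
  by_contra h1
  refine hn ⟨ht, ((x ^ 2 ^ k : ↥(centralizer ({t} : Set G))) : G), mem_cent.1 (x ^ 2 ^ k).2, ?_,
    fun e => h1 (Subtype.ext e)⟩
  rw [Subgroup.orderOf_coe, orderOf_pow_of_dvd (pow_ne_zero _ two_ne_zero) ⟨m, hkm⟩, hkm,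
    Nat.mul_div_cancel_left _ (Nat.two_pow_pos _)]
  exact hm

/-- An involution whose centraliser contains that of the good involution `t` has the same centraliser. -/
theorem IsII.cent_eq_of_le {t s : G} (htg : IsGood t) (hs : orderOf s = 2)
    (hle : centralizer ({t} : Set G) ≤ centralizer ({s} : Set G)) :
    centralizer ({s} : Set G) = centralizer ({t} : Set G) := by
  obtain ⟨ht, a, hat, hao, ha1⟩ := htg
  rw [← h.norm_odd hs (mem_cent.1 (hle (mem_cent.2 hat))) hao ha1, h.norm_odd ht hat hao ha1]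

theorem IsII.cent_eq_of_commute {t s a : G} (ht : orderOf t = 2) (hs : orderOf s = 2) (hat : Commute a t)
    (has : Commute a s) (hao : Odd (orderOf a)) (ha1 : a ≠ 1) :
    centralizer ({s} : Set G) = centralizer ({t} : Set G) := by
  rw [← h.norm_odd hs has hao ha1, h.norm_odd ht hat hao ha1]

/-- An involution of `C(t)` with another centraliser inverts every element of odd order of `C(t)`. -/
theorem IsII.inverts {t s a : G} (ht : orderOf t = 2) (hs : orderOf s = 2) (hst : Commute s t)
    (hne : centralizer ({s} : Set G) ≠ centralizer ({t} : Set G)) (hat : Commute a t)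
    (hao : Odd (orderOf a)) : s * a * s⁻¹ = a⁻¹ := by
  rcases eq_or_ne a 1 with rfl | ha1
  · simp
  have hsn : s ∈ normalizer (zpowers a : Set G) := by
    rw [h.norm_odd ht hat hao ha1]; exact mem_cent.2 hst
  obtain ⟨k, hk⟩ := mem_zpowers_iff.1 ((Subgroup.mem_normalizer_iff.1 hsn a).1 (mem_zpowers a))
  obtain ⟨w, hw⟩ : ∃ w, w = a * (s * a * s⁻¹) := ⟨_, rfl⟩
  have hwz : w ∈ zpowers a := by rw [hw, ← hk]; exact mul_mem (mem_zpowers a) ⟨k, rfl⟩
  by_cases hw1 : w = 1
  · exact eq_inv_of_mul_eq_one_right (hw ▸ hw1)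
  refine absurd ?_ hne
  refine h.cent_eq_of_commute ht hs (a := w) ?_ ?_ ?_ hw1
  · obtain ⟨j, rfl⟩ := mem_zpowers_iff.1 hwz
    exact hat.zpow_left j
  · show w * s = s * w
    rw [hw, ← hk]
    have e : s * a ^ k * s⁻¹ = a := by
      rw [hk, Invol.inv_eq_self hs, ← mul_assoc, ← mul_assoc, Invol.inv_mul_self hs, one_mul, mul_assoc,
        Invol.inv_mul_self hs, mul_one]
    have e2 : s * (a * a ^ k) * s⁻¹ = a * a ^ k := by
      rw [show s * (a * a ^ k) * s⁻¹ = (s * a * s⁻¹) * (s * a ^ k * s⁻¹) by group, ← hk, e]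
      exact ((Commute.refl a).zpow_left k).eq
    exact (mul_inv_eq_iff_eq_mul.1 e2).symm
  · obtain ⟨j, rfl⟩ := mem_zpowers_iff.1 hwz
    exact hao.of_dvd_nat (orderOf_dvd_of_mem_zpowers (zpow_mem (mem_zpowers a) j))

/-- The product of two commuting inverters centralises the odd part. -/
theorem IsII.cent_eq_of_inverters {t s s' : G} (htg : IsGood t) (hs : orderOf s = 2) (hst : Commute s t)
    (hsn : centralizer ({s} : Set G) ≠ centralizer ({t} : Set G)) (hs' : orderOf s' = 2) (hst' : Commute s' t)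
    (hsn' : centralizer ({s'} : Set G) ≠ centralizer ({t} : Set G)) (hss : Commute s s') (hne : s ≠ s') :
    centralizer ({s * s'} : Set G) = centralizer ({t} : Set G) := by
  obtain ⟨ht, a, hat, hao, ha1⟩ := htg
  refine h.cent_eq_of_commute ht (Invol.orderOf_eq_two_of (fun e => hne ?_) ?_) hat ?_ hao ha1
  · rw [eq_inv_of_mul_eq_one_left e, Invol.inv_eq_self hs']
  · rw [hss.symm.mul_mul_mul_comm, Invol.inv_mul_self hs, Invol.inv_mul_self hs', one_mul]
  · have e : s * s' * a * (s * s')⁻¹ = a := by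
      rw [show s * s' * a * (s * s')⁻¹ = s * (s' * a * s'⁻¹) * s⁻¹ by group,
        h.inverts ht hs' hst' hsn' hat hao, ← conj_inv, h.inverts ht hs hst hsn hat hao, inv_inv]
    exact (mul_inv_eq_iff_eq_mul.1 e).symm

/-- The odd part is invariant in the centraliser. -/
theorem IsII.oddPart_conj {t : G} (ht : orderOf t = 2) :
    ∀ c ∈ centralizer ({t} : Set G), ∀ a ∈ oddPart h ht, c * a * c⁻¹ ∈ oddPart h ht := by
  rintro c hc a ⟨hat, hao⟩
  have hct := mem_cent.1 hc
  exact ⟨(hct.mul_left hat).mul_left hct.inv_left, by rw [Invol.orderOf_conj_eq]; exact hao⟩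

end Cfsg.Lib.IIGroups
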