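import Cfsg.Agent.Lib.IIGroups.Basic
import Cfsg.Agent.Lib.CIT.Consumers.FrobSystem
import Cfsg.Agent.Lib.Plane.Orbits
import Cfsg.Agent.Lib.FTCons.AutSylow

/-!
# A good involution sharing its centraliser with another involution

In a non-abelian simple group with `IsII`, if the good involution `t` has the same centraliser as
another involution, then `C(t)` satisfies the hypotheses of the TI counting theorem.
-/

set_option autoImplicit false

namespace Cfsg.Lib.IIGroups

open Subgroup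
open Cfsg.Lib

universe u

variable {G : Type u} [Group G] [Finite G]

theorem IsGood.conj {t : G} (htg : IsGood t) (g : G) : IsGood (g * t * g⁻¹) := by
  obtain ⟨ht, a, hat, hao, ha1⟩ := htg
  refine ⟨by rw [Invol.orderOf_conj_eq]; exact ht, g * a * g⁻¹, ?_, by rw [Invol.orderOf_conj_eq]; exact hao,
    fun e => ha1 (conj_eq_one_iff.1 e)⟩
  show g * a * g⁻¹ * (g * t * g⁻¹) = g * t * g⁻¹ * (g * a * g⁻¹)
  simp only [conj_mul, hat.eq]

omit [Finite G] in
theorem mem_cent_conj {g t x : G} :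
    x ∈ centralizer ({g * t * g⁻¹} : Set G) ↔ g⁻¹ * x * g ∈ centralizer ({t} : Set G) := by
  rw [mem_cent, mem_cent]
  constructor <;> intro e
  · show g⁻¹ * x * g * t = t * (g⁻¹ * x * g)
    calc g⁻¹ * x * g * t = g⁻¹ * (x * (g * t * g⁻¹)) * g := by group
      _ = g⁻¹ * (g * t * g⁻¹ * x) * g := by rw [e.eq]
      _ = t * (g⁻¹ * x * g) := by group
  · show x * (g * t * g⁻¹) = g * t * g⁻¹ * x
    calc x * (g * t * g⁻¹) = g * (g⁻¹ * x * g * t) * g⁻¹ := by group
      _ = g * (t * (g⁻¹ * x * g)) * g⁻¹ := by rw [e.eq]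
      _ = g * t * g⁻¹ * x := by group

/-- The data of this file. -/
structure BigData (t t' : G) : Prop where
  ii : IsII G
  good : IsGood t
  ord' : orderOf t' = 2
  ne : t' ≠ t
  same : centralizer ({t'} : Set G) = centralizer ({t} : Set G)

namespace BigData

variable {t t' : G} (d : BigData t t')
include d

theorem comm : Commute t' t :=
  mem_cent.1 (d.same ▸ mem_cent.2 (Commute.refl t'))

/-- An involution of `C(t)` with another centraliser is not good. -/
theorem not_good_of_ne {s : G} (hs : orderOf s = 2) (hst : Commute s t)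
    (hne : centralizer ({s} : Set G) ≠ centralizer ({t} : Set G)) : ¬ IsGood s := by
  intro hsg
  have ht := d.good.1
  have hst' : Commute t' s := ((mem_cent.1 (d.same.symm ▸ mem_cent.2 hst)).symm)
  have hne' : centralizer ({t'} : Set G) ≠ centralizer ({s} : Set G) := fun e => hne (by rw [← e, d.same])
  have h2 := d.ii.cent_eq_of_inverters hsg ht hst.symm (fun e => hne e.symm) d.ord' hst' hne' d.comm.symm d.ne.symm
  have hle : centralizer ({t} : Set G) ≤ centralizer ({t * t'} : Set G) := fun x hx =>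
    mem_cent.2 ((mem_cent.1 hx).mul_right (mem_cent.1 (d.same.symm ▸ hx)))
  have hinv : orderOf (t * t') = 2 := Invol.orderOf_eq_two_of
    (fun e => d.ne (by rw [eq_inv_of_mul_eq_one_right e, Invol.inv_eq_self ht]))
    (by rw [d.comm.mul_mul_mul_comm, Invol.inv_mul_self ht, Invol.inv_mul_self d.ord', one_mul])
  exact hne ((d.ii.cent_eq_of_le d.good hinv hle).symm.trans h2).symm

theorem cent_eq_of_good {s : G} (hsg : IsGood s) (hst : Commute s t) :
    centralizer ({s} : Set G) = centralizer ({t} : Set G) :=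
  by_contra fun hne => d.not_good_of_ne hsg.1 hst hne hsg

omit d in
/-- The elements with the same centraliser as `t`, and the identity. -/
def sameCent (hd : BigData t t') : Subgroup G where
  carrier := {x | x = 1 ∨ (orderOf x = 2 ∧ centralizer ({x} : Set G) = centralizer ({t} : Set G))}
  one_mem' := Or.inl rfl
  mul_mem' := by
    rintro x y (rfl | ⟨hx, hxe⟩) (rfl | ⟨hy, hye⟩)
    · exact Or.inl (one_mul _)
    · exact Or.inr (by rw [one_mul]; exact ⟨hy, hye⟩)
    · exact Or.inr (by rw [mul_one]; exact ⟨hx, hxe⟩)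
    · rcases eq_or_ne (x * y) 1 with e | e
      · exact Or.inl e
      have hxy : Commute x y := mem_cent.1 (hye.symm ▸ hxe ▸ mem_cent.2 (Commute.refl x))
      have hinv : orderOf (x * y) = 2 := Invol.orderOf_eq_two_of e
        (by rw [hxy.symm.mul_mul_mul_comm, Invol.inv_mul_self hx, Invol.inv_mul_self hy, one_mul])
      exact Or.inr ⟨hinv, hd.ii.cent_eq_of_le hd.good hinv fun z hz =>
        mem_cent.2 ((mem_cent.1 (hxe.symm ▸ hz)).mul_right (mem_cent.1 (hye.symm ▸ hz)))⟩
  inv_mem' := by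
    rintro x (rfl | ⟨hx, hxe⟩)
    · exact Or.inl inv_one
    · exact Or.inr (by rw [Invol.inv_eq_self hx]; exact ⟨hx, hxe⟩)

/-- The centraliser of `t` contains a Sylow 2-subgroup of `G`. -/
theorem exists_sylow : ∃ S : Sylow 2 G, (S : Subgroup G) ≤ centralizer ({t} : Set G) := by
  haveI : Fact (Nat.Prime 2) := ⟨Nat.prime_two⟩
  obtain ⟨C, hC⟩ : ∃ C, C = centralizer ({t} : Set G) := ⟨_, rfl⟩
  obtain ⟨T₀⟩ : Nonempty (Sylow 2 ↥C) := inferInstance
  obtain ⟨S, hS⟩ := (T₀.2.map C.subtype).exists_le_sylow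
  refine ⟨S, fun x hx => hC ▸ ?_⟩
  by_contra hxC
  set T := (S : Subgroup G) ⊓ C with hT
  have hTne : T ≠ (S : Subgroup G) := fun e => hxC (e.symm ▸ hx : x ∈ T).2
  obtain ⟨h, hhS, hhT, hhN⟩ := Plane.exists_normalizer_not_mem S.2 inf_le_left hTne
  have hEC : ∀ e ∈ sameCent d, e ∈ C ∧ ∀ c ∈ C, Commute c e := by
    rintro e (rfl | ⟨-, he⟩)
    · exact ⟨one_mem _, fun c _ => Commute.one_right c⟩
    · exact ⟨hC ▸ he ▸ mem_cent.2 (Commute.refl e), fun c hc => mem_cent.1 (he.symm ▸ hC ▸ hc)⟩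
  have hT0T : (T₀ : Subgroup ↥C) = T.subgroupOf C := by
    have hp : IsPGroup 2 ↥(T.subgroupOf C) := (S.2.to_le inf_le_left).comap_subtype
    refine (T₀.3 hp fun y hy => ?_).symm
    exact Subgroup.mem_inf.2 ⟨hS ⟨y, hy, rfl⟩, y.2⟩
  have hET : sameCent d ≤ T := by
    intro e he
    obtain ⟨heC, hec⟩ := hEC e he
    -- a central element of 2-power order lies in every Sylow subgroup
    have hz : (⟨e, heC⟩ : ↥C) ∈ (T₀ : Subgroup ↥C) := by
      have hp : IsPGroup 2 ↥(zpowers (⟨e, heC⟩ : ↥C)) := by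
        rintro ⟨y, hy⟩
        obtain ⟨k, rfl⟩ := mem_zpowers_iff.1 hy
        refine ⟨1, Subtype.ext (Subtype.ext ?_)⟩
        show ((e : G) ^ k) ^ 2 ^ 1 = 1
        rw [pow_one, ← zpow_natCast, ← zpow_mul, mul_comm, zpow_mul, zpow_natCast, pow_two]
        rcases he with rfl | ⟨he2, -⟩
        · simp
        · rw [Invol.inv_mul_self he2, one_zpow]
      have hn : (zpowers (⟨e, heC⟩ : ↥C)).Normal := ⟨fun y hy g => by
        obtain ⟨k, rfl⟩ := mem_zpowers_iff.1 hy
        have hc : Commute g (⟨e, heC⟩ : ↥C) := Subtype.ext (hec g g.2).eq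
        rw [(hc.zpow_right k).eq, mul_inv_cancel_right]
        exact hy⟩
      have hle : zpowers (⟨e, heC⟩ : ↥C) ≤ (T₀ : Subgroup ↥C) := by
        haveI := hn
        exact hp.le_sylow_of_normal T₀
      exact hle (mem_zpowers _)
    rw [hT0T] at hz
    exact hz
  have hEh : ∀ e ∈ sameCent d, h * e * h⁻¹ ∈ sameCent d := by
    rintro e (rfl | ⟨he2, he⟩)
    · exact Or.inl (by group)
    have hmem : h * e * h⁻¹ ∈ T := (mem_normalizer_iff.1 hhN e).1 (hET (Or.inr ⟨he2, he⟩))
    have hgood : IsGood e := by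
      obtain ⟨ht, a, hat, hao, ha1⟩ := d.good
      exact ⟨he2, a, mem_cent.1 (he.symm ▸ mem_cent.2 hat), hao, ha1⟩
    exact Or.inr ⟨by rw [Invol.orderOf_conj_eq]; exact he2,
      d.cent_eq_of_good (hgood.conj h) (mem_cent.1 (hC ▸ hmem.2))⟩
  obtain ⟨P, hP⟩ : ∃ P, P = (S : Subgroup G) ⊓ normalizer (sameCent d : Set G) := ⟨_, rfl⟩
  have hhP : h ∈ P := hP ▸ ⟨hhS, mem_normalizer_fintype hEh⟩
  have hEP : sameCent d ≤ P := fun e he => hP ▸ ⟨(hET he).1, le_normalizer he⟩
  haveI : ((sameCent d).subgroupOf P).Normal := by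
    rw [normal_subgroupOf_iff_le_normalizer hEP, hP]; exact inf_le_right
  have hPp : IsPGroup 2 ↥P := S.2.to_le (hP ▸ inf_le_left)
  obtain ⟨u, huE, hu2, huc⟩ := FTCons.exists_central_involution hPp (N := (sameCent d).subgroupOf P) fun e => by
    have : (⟨t, hEP (Or.inr ⟨d.good.1, rfl⟩)⟩ : ↥P) ∈ (⊥ : Subgroup ↥P) := e ▸ Or.inr ⟨d.good.1, rfl⟩
    exact Invol.ne_one d.good.1 (congrArg Subtype.val (mem_bot.1 this))
  rcases huE with hu1 | ⟨-, hucent⟩
  · have e : u = 1 := Subtype.ext hu1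
    rw [e, orderOf_one] at hu2; omega
  · refine hhT ⟨hhS, hC ▸ hucent ▸ mem_cent.2 ?_⟩
    exact ((huc ⟨h, hhP⟩).map P.subtype)

/-- A conjugate of `t` is central in every 2-group containing it. -/
theorem commute_of_good {Q : Subgroup G} (hQ : IsPGroup 2 ↥Q) {g : G} (he : g * t * g⁻¹ ∈ Q) {q : G}
    (hq : q ∈ Q) : Commute q (g * t * g⁻¹) := by
  haveI : Fact (Nat.Prime 2) := ⟨Nat.prime_two⟩
  obtain ⟨S, hS⟩ := d.exists_sylow
  obtain ⟨S', hS'⟩ := hQ.exists_le_sylow
  obtain ⟨k, hk⟩ := MulAction.exists_smul_eq G S' S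
  have hin : ∀ {x}, x ∈ Q → k * x * k⁻¹ ∈ centralizer ({t} : Set G) := fun {x} hx => hS (by
    rw [← hk, Sylow.coe_subgroup_smul]
    exact ⟨x, hS' hx, rfl⟩)
  have hgood : IsGood (k * (g * t * g⁻¹) * k⁻¹) := (d.good.conj g).conj k
  have he' := d.cent_eq_of_good hgood (mem_cent.1 (hin he))
  have := hin hq
  rw [← he', mem_cent_conj] at this
  simpa [mul_assoc, mem_cent] using mem_cent.1 this

variable [IsSimpleGroup G]

/-- Every involution of `C(t)` has centraliser `C(t)`. -/
theorem cent_eq (hna : ¬ IsMulCommutative G) {s : G} (hs : orderOf s = 2) (hst : Commute s t) :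
    centralizer ({s} : Set G) = centralizer ({t} : Set G) := by
  by_contra hne
  have hsg := d.not_good_of_ne hs hst hne
  have key : ∀ g : G, Commute s (g * t * g⁻¹) := by
    intro g
    have he := d.good.conj g
    rcases Nat.even_or_odd (orderOf ((g * t * g⁻¹) * s)) with hev | hodd
    · obtain ⟨hw, hwe, hws⟩ := Invol.central_involution he.1 hs hev
      generalize (g * t * g⁻¹ * s) ^ (orderOf (g * t * g⁻¹ * s) / 2) = w at hw hwe hws
      by_cases hwE : centralizer ({w} : Set G) = centralizer ({g * t * g⁻¹} : Set G)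
      · exact mem_cent.1 (hwE ▸ mem_cent.2 hws.symm)
      · have hwt : Commute (g⁻¹ * w * g) t := mem_cent.1 (mem_cent_conj.1 (mem_cent.2 hwe))
        have hw2 : orderOf (g⁻¹ * w * g) = 2 := by
          have := Invol.orderOf_conj_eq g⁻¹ w
          rw [inv_inv] at this; rw [this, hw]
        have hwng : ¬ IsGood w := fun hwg => by
          refine d.not_good_of_ne hw2 hwt (fun e => hwE ?_) (by simpa using hwg.conj g⁻¹)
          ext x
          rw [mem_cent_conj (g := g) (t := t), ← e, mem_cent, mem_cent]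
          constructor <;> intro hx
          · show g⁻¹ * x * g * (g⁻¹ * w * g) = g⁻¹ * w * g * (g⁻¹ * x * g)
            calc _ = g⁻¹ * (x * w) * g := by group
              _ = g⁻¹ * (w * x) * g := by rw [hx.eq]
              _ = _ := by group
          · show x * w = w * x
            calc x * w = g * (g⁻¹ * x * g * (g⁻¹ * w * g)) * g⁻¹ := by group
              _ = g * (g⁻¹ * w * g * (g⁻¹ * x * g)) * g⁻¹ := by rw [hx.eq]
              _ = w * x := by group
        exact d.commute_of_good (not_good hw hwng) (mem_cent.2 hwe.symm) (mem_cent.2 hws.symm)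
    · obtain ⟨k, -, hk⟩ := Invol.exists_conj_of_odd he.1 hs hodd
      exact absurd (hk ▸ he.conj k) hsg
  have hmem : s ∈ center G := by
    have hN : normalClosure ({t} : Set G) = ⊤ :=
      (normalClosure_normal (s := ({t} : Set G))).eq_bot_or_eq_top.resolve_left fun e =>
        Invol.ne_one d.good.1 (mem_bot.1 (e ▸ subset_normalClosure rfl))
    have hle : normalClosure ({t} : Set G) ≤ centralizer ({s} : Set G) := by
      refine (closure_le _).2 fun x hx => ?_
      obtain ⟨a, ha, hax⟩ := Group.mem_conjugatesOfSet_iff.1 hx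
      rw [Set.mem_singleton_iff] at ha
      subst ha
      obtain ⟨c, rfl⟩ := isConj_iff.1 hax
      exact mem_cent.2 (key c).symm
    rw [hN] at hle
    exact mem_center_iff.2 fun x => (mem_cent.1 (hle (mem_top x))).eq
  rcases (inferInstance : (center G).Normal).eq_bot_or_eq_top with e | e
  · exact Invol.ne_one hs (mem_bot.1 (e ▸ hmem))
  · exact hna ⟨⟨fun a b => mem_center_iff.1 (e ▸ mem_top b) a⟩⟩

/-- Non-trivial elements of `C(t)` generate subgroups with normaliser `C(t)`. -/
theorem normalizer_eq (hna : ¬ IsMulCommutative G) {x : G} (hx : Commute x t) (hx1 : x ≠ 1) :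
    normalizer (zpowers x : Set G) = centralizer ({t} : Set G) := by
  rcases Nat.even_or_odd (orderOf x) with hev | hodd
  · obtain ⟨r, hr, hr2⟩ := exists_root hev (orderOf_pos x).ne'
    obtain ⟨k, rfl⟩ := mem_zpowers_iff.1 hr
    rw [d.ii.norm_root_self hev hr hr2, d.cent_eq hna hr2 (hx.zpow_left k)]
  · exact d.ii.norm_odd d.good.1 hx hodd hx1

theorem centralizer_le (hna : ¬ IsMulCommutative G) {x : G} (hx : Commute x t) (hx1 : x ≠ 1) :
    centralizer ({x} : Set G) ≤ centralizer ({t} : Set G) := fun y hy => by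
  rw [← d.normalizer_eq hna hx hx1, Subgroup.mem_normalizer_iff_map_conj_eq, MonoidHom.map_zpowers]
  simp [(mem_cent.1 hy).eq]

theorem tiData (hna : ¬ IsMulCommutative G) : CIT.TIData (centralizer ({t} : Set G)) := by
  obtain ⟨C, hC⟩ : ∃ C, C = centralizer ({t} : Set G) := ⟨_, rfl⟩
  rw [← hC]
  have hcent : ∀ x ∈ C, x ≠ 1 → centralizer ({x} : Set G) ≤ C := fun x hx hx1 =>
    hC ▸ d.centralizer_le hna (mem_cent.1 (hC ▸ hx)) hx1
  refine ⟨fun e => ?_, CIT.Consumers.coprime_index_of_cent hcent, fun g hg => ?_, hcent,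
    ⟨t, hC ▸ mem_cent.2 (Commute.refl t), d.good.1, fun c hc => (mem_cent.1 (hC ▸ hc)).eq⟩,
    ⟨t, hC ▸ mem_cent.2 (Commute.refl t), t', hC ▸ mem_cent.2 d.comm, d.good.1, d.ord', d.ne.symm⟩⟩
  · haveI : C.Normal := Subgroup.normalizer_eq_top_iff.1 e
    rcases (inferInstance : C.Normal).eq_bot_or_eq_top with e' | e'
    · exact Invol.ne_one d.good.1 (mem_bot.1 (e' ▸ (hC ▸ mem_cent.2 (Commute.refl t) : t ∈ C)))
    · have hmem : t ∈ center G := mem_center_iff.2 fun x =>
        (mem_cent.1 (hC ▸ (e' ▸ mem_top x : x ∈ C))).eq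
      rcases (inferInstance : (center G).Normal).eq_bot_or_eq_top with e'' | e''
      · exact Invol.ne_one d.good.1 (mem_bot.1 (e'' ▸ hmem))
      · exact hna ⟨⟨fun a b => mem_center_iff.1 (e'' ▸ mem_top b) a⟩⟩
  · rw [eq_bot_iff]
    rintro x ⟨hx, c, hc, hcx⟩
    rw [mem_bot]
    by_contra hx1
    refine hg (mem_normalizer_iff_map_conj_eq.2 ?_)
    have hxC := mem_cent.1 (hC ▸ hx)
    change g * c * g⁻¹ = x at hcx
    have hc1 : c ≠ 1 := fun e => hx1 (by rw [← hcx, e]; group)
    rw [hC]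
    refine le_antisymm ?_ ?_ |>.trans (d.normalizer_eq hna hxC hx1)
    · rintro _ ⟨z, hz, rfl⟩
      rw [SetLike.mem_coe, ← d.normalizer_eq hna (mem_cent.1 (hC ▸ hc)) hc1] at hz
      rw [← hcx, mem_normalizer_iff_map_conj_eq] at *
      show (zpowers (g * c * g⁻¹)).map (MulAut.conj (g * z * g⁻¹)).toMonoidHom = zpowers (g * c * g⁻¹)
      rw [MonoidHom.map_zpowers] at hz ⊢
      have := congrArg (Subgroup.map (MulAut.conj g).toMonoidHom) hz
      simpa [MonoidHom.map_zpowers, mul_assoc] using this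
    · intro z hz
      refine ⟨g⁻¹ * z * g, ?_, by simp [mul_assoc]⟩
      rw [SetLike.mem_coe, ← d.normalizer_eq hna (mem_cent.1 (hC ▸ hc)) hc1]
      rw [← hcx, mem_normalizer_iff_map_conj_eq] at hz
      rw [mem_normalizer_iff_map_conj_eq]
      rw [MonoidHom.map_zpowers] at hz ⊢
      have := congrArg (Subgroup.map (MulAut.conj g⁻¹).toMonoidHom) hz
      simpa [MonoidHom.map_zpowers, mul_assoc] using this

end BigData

end Cfsg.Lib.IIGroups
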