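import Cfsg.Agent.Lib.IIGroups.SmallMain
import Cfsg.Agent.Lib.FTCons.AutSylow

/-!
# A good involution alone with its centraliser: the theorem
-/

set_option autoImplicit false

namespace Cfsg.Lib.IIGroups

open Subgroup
open Cfsg.Lib

universe u

variable {G : Type u} [Group G] [Finite G]

namespace SmallData

variable {t : G} (d : SmallData t)
include d

variable [IsSimpleGroup G] (hna : ¬ IsMulCommutative G)
include hna

theorem false_of_isolated {z : G} (hz2 : orderOf z = 2) (hz : IsIsolatedInvolution z) : False := by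
  have h := ZStar.mem_center_of_isolated (CIT.oddCore_eq_bot hna) hz
  rcases (inferInstance : (center G).Normal).eq_bot_or_eq_top with e | e
  · exact Invol.ne_one hz2 (mem_bot.1 (e ▸ h))
  · exact hna ⟨⟨fun a b => mem_center_iff.1 (e ▸ mem_top b) a⟩⟩

theorem false_of_two {S : Sylow 2 G} (htS : t ∈ (S : Subgroup G)) {g₀ u : G}
    (c : TwoData d ((S : Subgroup G) ⊓ centralizer ({t} : Set G)) g₀ u) : False := by
  haveI : Fact (Nat.Prime 2) := ⟨Nat.prime_two⟩
  obtain ⟨T, hTdef⟩ : ∃ T, T = (S : Subgroup G) ⊓ centralizer ({t} : Set G) := ⟨_, rfl⟩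
  rw [← hTdef] at c
  have hT : IsPGroup 2 ↥T := S.2.to_le (hTdef ▸ inf_le_left)
  have hTS : T ≤ (S : Subgroup G) := hTdef ▸ inf_le_left
  have hTc : ∀ x ∈ T, Commute x t := fun x hx => mem_cent.1 (mem_inf.1 (hTdef ▸ hx)).2
  have hmemT : ∀ {x}, x ∈ (S : Subgroup G) → Commute x t → x ∈ T := fun hx hc =>
    hTdef ▸ mem_inf.2 ⟨hx, mem_cent.2 hc⟩
  have htT : t ∈ T := hmemT htS (Commute.refl t)
  have hg₀u : u ∈ zpowers g₀ := c.sq ▸ mul_mem (mem_zpowers g₀) (mem_zpowers g₀)
  have hg₀1 : g₀ ≠ 1 := fun e => Invol.ne_one c.ord (by rw [← c.sq, e, mul_one])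
  have hg₀t : g₀ * t * (g₀ * t) = u := by
    rw [(hTc g₀ c.mem).symm.mul_mul_mul_comm, c.sq, Invol.inv_mul_self d.good.1, mul_one]
  -- the Sylow subgroup centralises `u`
  have hSu : (S : Subgroup G) ≤ centralizer ({u} : Set G) := by
    intro x hx
    by_cases hxT : x ∈ T
    · exact mem_cent.2 (c.u_central hT hTc hxT)
    obtain ⟨h, hhS, hhT, hhN⟩ := Plane.exists_normalizer_not_mem S.2 hTS fun e => hxT (e ▸ hx)
    have hconj : ∀ y ∈ T, h * y * h⁻¹ ∈ T := fun y hy => (mem_normalizer_iff.1 hhN y).1 hy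
    have hu : h * u * h⁻¹ = u := by
      have h1 := c.sq_eq hT hTc (hconj g₀ c.mem) (by
        rw [show h * g₀ * h⁻¹ * (h * g₀ * h⁻¹) = h * (g₀ * g₀) * h⁻¹ by group, c.sq, Invol.orderOf_conj_eq, c.ord])
      rwa [show h * g₀ * h⁻¹ * (h * g₀ * h⁻¹) = h * (g₀ * g₀) * h⁻¹ by group, c.sq] at h1
    have ht' : h * t * h⁻¹ = t * u := by
      rcases c.invol_cases hT hTc (hconj t htT) (by rw [Invol.orderOf_conj_eq]; exact d.good.1) with e | e | e
      · exact absurd (hmemT hhS (mul_inv_eq_iff_eq_mul.1 e)) hhT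
      · exact absurd (mul_left_cancel (mul_right_cancel (hu.trans e.symm))) c.ne
      · exact e
    obtain ⟨z, -, hz2, hzc⟩ := FTCons.exists_central_involution S.2
      (N := (⊤ : Subgroup ↥(S : Subgroup G))) fun e => by
        have := mem_bot.1 (e ▸ mem_top (⟨t, htS⟩ : ↥(S : Subgroup G)))
        exact Invol.ne_one d.good.1 (congrArg Subtype.val this)
    have hcz : ∀ y ∈ (S : Subgroup G), Commute (z : G) y := fun y hy =>
      (congrArg Subtype.val (hzc ⟨y, hy⟩).eq).symm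
    have hz : orderOf (z : G) = 2 := by rw [Subgroup.orderOf_coe]; exact hz2
    rcases c.invol_cases hT hTc (hmemT z.2 (hcz t htS)) hz with e | e | e
    · exact absurd (hmemT hhS (e ▸ hcz h hhS).symm) hhT
    · exact mem_cent.2 (e ▸ hcz x hx).symm
    · exfalso
      have h1 : h * (t * u) * h⁻¹ = t * u := by
        rw [← e, ← (hcz h hhS).eq, mul_inv_cancel_right]
      rw [show h * (t * u) * h⁻¹ = h * t * h⁻¹ * (h * u * h⁻¹) by group, ht', hu, mul_assoc,
        Invol.inv_mul_self c.ord, mul_one] at h1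
      exact Invol.ne_one c.ord (left_eq_mul.1 h1)
  have hCu : centralizer ({u} : Set G) = (S : Subgroup G) :=
    S.3 (IIGroups.not_good c.ord (c.not_good hT hTc htT)) hSu
  have hnu : ∀ {y}, orderOf (y * y) = 2 → y * y = u → normalizer (zpowers y : Set G) = centralizer ({u} : Set G) := by
    intro y h2 e
    rw [e] at h2
    have hy : orderOf y = 4 := orderOf_eq_prime_pow (p := 2) (n := 1)
      (by rw [pow_one, pow_two, e]; exact Invol.ne_one c.ord)
      (by rw [show 2 ^ (1 + 1) = 2 * 2 from rfl, pow_mul, pow_two, pow_two, e]; exact Invol.inv_mul_self c.ord)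
    exact d.ii.norm_root_self (by rw [hy]; decide) (e ▸ mul_mem (mem_zpowers y) (mem_zpowers y)) c.ord
  have hNg : normalizer (zpowers g₀ : Set G) = centralizer ({u} : Set G) := hnu (c.sq.symm ▸ c.ord) c.sq
  have hNgt : normalizer (zpowers (g₀ * t) : Set G) = centralizer ({u} : Set G) := hnu (hg₀t.symm ▸ c.ord) hg₀t
  -- conjugates of `t`
  have htconj : ∀ y ∈ (S : Subgroup G), y ∉ T → y * t * y⁻¹ = t * u := by
    intro y hy hyT
    have h1 : y * g₀ * y⁻¹ ∈ zpowers g₀ :=
      (mem_normalizer_iff.1 (hNg.symm ▸ hSu hy : y ∈ normalizer (zpowers g₀ : Set G)) g₀).1 (mem_zpowers g₀)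
    have h2 : y * (g₀ * t) * y⁻¹ ∈ zpowers (g₀ * t) :=
      (mem_normalizer_iff.1 (hNgt.symm ▸ hSu hy : y ∈ normalizer (zpowers (g₀ * t) : Set G)) (g₀ * t)).1
        (mem_zpowers _)
    have h3 : y * t * y⁻¹ ∈ T := by
      have e : y * t * y⁻¹ = (y * g₀ * y⁻¹)⁻¹ * (y * (g₀ * t) * y⁻¹) := by group
      rw [e]
      exact mul_mem (inv_mem (zpowers_le.2 c.mem h1)) (zpowers_le.2 (mul_mem c.mem htT) h2)
    rcases c.invol_cases hT hTc h3 (by rw [Invol.orderOf_conj_eq]; exact d.good.1) with e | e | e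
    · exact absurd (hmemT hy (mul_inv_eq_iff_eq_mul.1 e)) hyT
    · refine absurd ?_ c.ne
      have h4 : y⁻¹ * u * y = u := by
        rw [mul_assoc, ← (mem_cent.1 (hSu hy)).eq, ← mul_assoc, inv_mul_cancel, one_mul]
      calc u = y⁻¹ * u * y := h4.symm
        _ = y⁻¹ * (y * t * y⁻¹) * y := by rw [e]
        _ = t := by group
    · exact e
  -- the only square involution of `S`
  have hsq : ∀ y ∈ (S : Subgroup G), orderOf (y * y) = 2 → y * y = u := by
    intro y hy h2
    by_cases hyT : y ∈ T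
    · exact c.sq_eq hT hTc hyT h2
    have hyy : y * y ∈ T := by
      refine hmemT (mul_mem hy hy) ?_
      refine mul_inv_eq_iff_eq_mul.1 ?_
      have hyu : y * u * y⁻¹ = u := by rw [(mem_cent.1 (hSu hy)).eq, mul_inv_cancel_right]
      calc y * y * t * (y * y)⁻¹ = y * (y * t * y⁻¹) * y⁻¹ := by group
        _ = y * (t * u) * y⁻¹ := by rw [htconj y hy hyT]
        _ = y * t * y⁻¹ * (y * u * y⁻¹) := by group
        _ = t := by rw [htconj y hy hyT, hyu, mul_assoc, Invol.inv_mul_self c.ord, mul_one]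
    rcases c.invol_cases hT hTc hyy h2 with e | e | e
    · exact absurd (hmemT hy (e ▸ (Commute.refl y).mul_right (Commute.refl y))) hyT
    · exact e
    · refine absurd (hmemT hy ?_) hyT
      have h4 : Commute y (t * u) := e ▸ (Commute.refl y).mul_right (Commute.refl y)
      have h5 := h4.mul_right (mem_cent.1 (hSu hy)).inv_right
      rwa [mul_inv_cancel_right] at h5
  refine d.false_of_isolated hna c.ord (Invol.isolated_of_sylow S c.ord fun g hg => ?_)
  by_contra hne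
  obtain ⟨y, hy⟩ : ∃ y, y = g * u * g⁻¹ := ⟨_, rfl⟩
  rw [← hy] at hg hne
  -- an element of order four commuting with `y`
  obtain ⟨w, -, hwy, hwu⟩ : ∃ w, w ∈ (S : Subgroup G) ∧ Commute w y ∧ w * w = u := by
    have hy2 : orderOf y = 2 := by rw [hy, Invol.orderOf_conj_eq, c.ord]
    by_cases hyT : y ∈ T
    · rcases c.invol_cases hT hTc hyT hy2 with e | e | e
      · exact ⟨g₀, hTS c.mem, e ▸ hTc g₀ c.mem, c.sq⟩
      · exact absurd e hne
      · exact ⟨g₀, hTS c.mem, e ▸ (hTc g₀ c.mem).mul_right (c.u_central hT hTc c.mem), c.sq⟩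
    have hty := htconj y hg hyT
    have hyi := Invol.inv_eq_self hy2
    have hytsq : y * t * (y * t) = u := by
      calc y * t * (y * t) = y * t * y⁻¹ * t := by rw [hyi]; group
        _ = t * u * t := by rw [hty]
        _ = u := by rw [mul_assoc, ← (c.u_central hT hTc htT).eq, ← mul_assoc, Invol.inv_mul_self d.good.1, one_mul]
    have hm : g₀ * (y * t) * g₀⁻¹ ∈ zpowers (y * t) :=
      (mem_normalizer_iff.1 ((hnu (hytsq.symm ▸ c.ord) hytsq).symm ▸ hSu (hTS c.mem) :
        g₀ ∈ normalizer (zpowers (y * t) : Set G)) _).1 (mem_zpowers _)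
    obtain ⟨k, hk⟩ := mem_zpowers_iff.1 hm
    have hp : ∀ j : ℤ, (y * t) ^ (2 * j) ∈ T := fun j => by
      rw [zpow_mul, zpow_two, hytsq]
      exact zpow_mem (c.sq ▸ mul_mem c.mem c.mem) j
    rcases Int.even_or_odd' k with ⟨j, rfl | rfl⟩
    · refine absurd ?_ hyT
      have h6 : g₀ * (y * t) * g₀⁻¹ ∈ T := hk ▸ hp j
      have h7 := mul_mem (mul_mem (mul_mem (inv_mem c.mem) h6) c.mem) (inv_mem htT)
      simpa [mul_assoc] using h7
    · rcases Int.even_or_odd' j with ⟨i, rfl | rfl⟩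
      · refine ⟨g₀, hTS c.mem, ?_, c.sq⟩
        rw [zpow_add, zpow_one, zpow_mul, zpow_two, hytsq, zpow_mul, zpow_two, Invol.inv_mul_self c.ord, one_zpow,
          one_mul] at hk
        have h8 : Commute g₀ (y * t) := (mul_inv_eq_iff_eq_mul.1 hk.symm)
        have h9 := h8.mul_right (hTc g₀ c.mem).inv_right
        rwa [mul_inv_cancel_right] at h9
      · refine ⟨g₀ * t, hTS (mul_mem c.mem htT), ?_, hg₀t⟩
        rw [zpow_add, zpow_one, zpow_mul, zpow_two, hytsq, zpow_add_one, zpow_mul, zpow_two,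
          Invol.inv_mul_self c.ord, one_zpow, one_mul] at hk
        have huy := mem_cent.1 (hSu hg)
        have htt := (hTc g₀ c.mem)
        have h10 : g₀ * y = u * y * g₀ := by
          calc g₀ * y = (g₀ * (y * t) * g₀⁻¹) * (g₀ * t⁻¹) := by group
            _ = u * (y * t) * (t⁻¹ * g₀) := by rw [← hk, htt.inv_right.eq]
            _ = u * y * g₀ := by group
        have h11 : t * y = y * (t * u) := by
          calc t * y = y * (y * t * y⁻¹) := by
                rw [hyi, ← mul_assoc, ← mul_assoc, Invol.inv_mul_self hy2, one_mul]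
            _ = y * (t * u) := by rw [hty]
        show g₀ * t * y = y * (g₀ * t)
        calc g₀ * t * y = g₀ * y * (t * u) := by rw [mul_assoc, h11, mul_assoc]
          _ = u * y * g₀ * (t * u) := by rw [h10]
          _ = y * (u * (g₀ * t) * u) := by rw [← huy.eq]; group
          _ = y * (g₀ * t) := by
            rw [← ((c.u_central hT hTc (mul_mem c.mem htT))).eq, mul_assoc, Invol.inv_mul_self c.ord, mul_one]
  have h1 : g⁻¹ * w * g ∈ (S : Subgroup G) := by
    rw [← hCu, mem_cent]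
    show g⁻¹ * w * g * u = u * (g⁻¹ * w * g)
    calc g⁻¹ * w * g * u = g⁻¹ * (w * y) * g := by rw [hy]; group
      _ = g⁻¹ * (y * w) * g := by rw [hwy.eq]
      _ = u * (g⁻¹ * w * g) := by rw [hy]; group
  have h2 := hsq _ h1 (by
    rw [show g⁻¹ * w * g * (g⁻¹ * w * g) = g⁻¹ * (w * w) * g⁻¹⁻¹ by group, hwu, Invol.orderOf_conj_eq, c.ord])
  refine hne ?_
  rw [hy]
  calc g * u * g⁻¹ = g * (g⁻¹ * w * g * (g⁻¹ * w * g)) * g⁻¹ := by rw [h2]
    _ = w * w := by group
    _ = u := hwu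

/-- The theorem of this file. -/
theorem sylowDihedral : GW.SylowDihedral G := by
  haveI : Fact (Nat.Prime 2) := ⟨Nat.prime_two⟩
  obtain ⟨S, hS⟩ := (show IsPGroup 2 ↥(zpowers t) from IsPGroup.of_card (n := 1)
    (by rw [Nat.card_zpowers, d.good.1, pow_one])).exists_le_sylow
  have htS : t ∈ (S : Subgroup G) := hS (mem_zpowers t)
  obtain ⟨T, hTdef⟩ : ∃ T, T = (S : Subgroup G) ⊓ centralizer ({t} : Set G) := ⟨_, rfl⟩
  have hT : IsPGroup 2 ↥T := S.2.to_le (hTdef ▸ inf_le_left)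
  have hTS : T ≤ (S : Subgroup G) := hTdef ▸ inf_le_left
  have hTc : ∀ x ∈ T, Commute x t := fun x hx => mem_cent.1 (mem_inf.1 (hTdef ▸ hx)).2
  have hmemT : ∀ {x}, x ∈ (S : Subgroup G) → Commute x t → x ∈ T := fun hx hc =>
    hTdef ▸ mem_inf.2 ⟨hx, mem_cent.2 hc⟩
  have htT : t ∈ T := hmemT htS (Commute.refl t)
  by_cases hI : ∀ x ∈ T, x ∉ kernelT d T → x * x = 1
  · by_cases hK : ∀ x ∈ T, x ∈ kernelT d T
    · exfalso
      obtain ⟨z, -, hz2, hzc⟩ := FTCons.exists_central_involution S.2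
        (N := (⊤ : Subgroup ↥(S : Subgroup G))) fun e => by
          have := mem_bot.1 (e ▸ mem_top (⟨t, htS⟩ : ↥(S : Subgroup G)))
          exact Invol.ne_one d.good.1 (congrArg Subtype.val this)
      have hcz : ∀ y ∈ (S : Subgroup G), Commute (z : G) y := fun y hy =>
        (congrArg Subtype.val (hzc ⟨y, hy⟩).eq).symm
      have hz : orderOf (z : G) = 2 := by rw [Subgroup.orderOf_coe]; exact hz2
      have hzt := d.eq_of_kernel hT hTc (hK _ (hmemT z.2 (hcz t htS))) hz
      exact d.false_of_isolated hna d.good.1 (ZStar.isolated_of_unique_involution S d.good.1 fun x hx hx2 =>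
        d.eq_of_kernel hT hTc (hK _ (hmemT hx (hzt ▸ hcz x hx).symm)) hx2)
    · push Not at hK
      obtain ⟨s, hs, hsK⟩ := hK
      obtain ⟨k₀, hk₀T, hk2, hinv, ⟨e⟩, hKz⟩ := d.generators hT hTc htT hI hs hsK
      by_cases hTeq : T = (S : Subgroup G)
      · exact GW.sylowDihedral_of_equiv S hk2 ⟨(MulEquiv.subgroupCongr hTeq.symm).trans e⟩
      obtain ⟨h, hhS, hhT, hhN⟩ := Plane.exists_normalizer_not_mem S.2 hTS hTeq
      have hk1 : orderOf k₀ = 2 := by
        obtain ⟨t', ht'⟩ : ∃ t', t' = h * t * h⁻¹ := ⟨_, rfl⟩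
        have ht'T : t' ∈ T := ht' ▸ (mem_normalizer_iff.1 hhN t).1 htT
        have ht't : t' ≠ t := fun e => hhT (hmemT hhS (mul_inv_eq_iff_eq_mul.1 (ht'.symm.trans e)))
        have ht'K : t' ∉ kernelT d T := fun hk => ht't (d.eq_of_kernel hT hTc hk
          (by rw [ht', Invol.orderOf_conj_eq]; exact d.good.1))
        have hc : Commute k₀ t' := by
          have h1 : Commute (h⁻¹ * k₀ * h) t := hTc _ (by
            simpa using (mem_normalizer_iff.1 (inv_mem hhN) k₀).1 hk₀T)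
          rw [ht']
          show k₀ * (h * t * h⁻¹) = h * t * h⁻¹ * k₀
          calc k₀ * (h * t * h⁻¹) = h * (h⁻¹ * k₀ * h * t) * h⁻¹ := by group
            _ = h * (t * (h⁻¹ * k₀ * h)) * h⁻¹ := by rw [h1.eq]
            _ = h * t * h⁻¹ * k₀ := by group
        have hkK : k₀ ∈ kernelT d T := hKz.symm ▸ mem_zpowers k₀
        have h2 := hI _ (mul_mem hk₀T ht'T) fun hm => ht'K (by simpa using mul_mem (inv_mem hkK) hm)
        rw [hc.symm.mul_mul_mul_comm, Invol.inv_mul_self (t := t') (by rw [ht', Invol.orderOf_conj_eq]; exact d.good.1),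
          mul_one] at h2
        exact Invol.orderOf_eq_two_of (fun e => by rw [e, orderOf_one] at hk2; omega) h2
      have hcard4 : Nat.card ↥T = 4 := by rw [Nat.card_congr e.toEquiv, hk1, DihedralGroup.nat_card]
      obtain ⟨n, hn⟩ := IsPGroup.iff_card.1 S.2
      have hlt : Nat.card ↥T < Nat.card ↥(S : Subgroup G) :=
        lt_of_le_of_ne (Nat.le_of_dvd Nat.card_pos (card_dvd_of_le hTS))
          fun e => hTeq (eq_of_le_of_card_ge hTS e.ge)
      have hn3 : 3 ≤ n := by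
        by_contra h3
        have : 2 ^ n ≤ 2 ^ 2 := Nat.pow_le_pow_right two_pos (by omega)
        rw [hcard4, hn] at hlt; omega
      have hC4 : Nat.card ↥(centralizer ({(⟨t, htS⟩ : ↥(S : Subgroup G))} : Set ↥(S : Subgroup G))) = 4 := by
        rw [← hcard4]
        refine Nat.card_congr ⟨fun x => ⟨x.1.1, hmemT x.1.2 ((mem_cent.1 x.2).map (S : Subgroup G).subtype)⟩,
          fun x => ⟨⟨x.1, hTS x.2⟩, mem_cent.2 (Subtype.ext (hTc x.1 x.2).eq)⟩, fun x => rfl, fun x => rfl⟩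
      have hnorm : ∀ g : ↥(S : Subgroup G), ∀ z ∈ center ↥(S : Subgroup G), orderOf g = 4 → g * g = z →
          ∀ x : ↥(S : Subgroup G), x * g * x⁻¹ ∈ zpowers g := by
        intro g z hz h4 hgz x
        have hev : Even (orderOf (g : G)) := by rw [Subgroup.orderOf_coe, h4]; decide
        have hz2 : orderOf (z : G) = 2 := by
          rw [Subgroup.orderOf_coe, ← hgz, ← pow_two, orderOf_pow, h4]; rfl
        have hzg : (z : G) ∈ zpowers (g : G) := by
          rw [← hgz]; exact mul_mem (mem_zpowers _) (mem_zpowers _)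
        have hxn : (x : G) ∈ normalizer (zpowers (g : G) : Set G) := by
          rw [d.ii.norm_root_self hev hzg hz2]
          exact mem_cent.2 (congrArg Subtype.val (mem_center_iff.1 hz x))
        obtain ⟨k, hk⟩ := mem_zpowers_iff.1 ((mem_normalizer_iff.1 hxn (g : G)).1 (mem_zpowers _))
        exact ⟨k, Subtype.ext (by simpa using hk)⟩
      obtain ⟨m, hm, hiso⟩ := dihedral_of_four (X := ↥(S : Subgroup G)) S.2 hn3 hn (t := ⟨t, htS⟩)
        (by rw [Subgroup.orderOf_mk]; exact d.good.1) hC4 hnorm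
      exact GW.sylowDihedral_of_equiv S hm hiso
  · exfalso
    push Not at hI
    obtain ⟨g, hg, hgK, hg2⟩ := hI
    obtain ⟨l, hl⟩ := two_power hT hg
    obtain ⟨l', rfl⟩ : ∃ l', l = l' + 2 := by
      refine ⟨l - 2, ?_⟩
      by_contra hlt
      refine hg2 ?_
      have h1 : g ^ 2 = 1 := orderOf_dvd_iff_pow_eq_one.1 (hl ▸ pow_dvd_pow 2 (show l ≤ 1 by omega))
      rwa [pow_two] at h1
    obtain ⟨g₀, hg₀⟩ : ∃ g₀, g₀ = g ^ 2 ^ l' := ⟨_, rfl⟩
    obtain ⟨u, hu⟩ : ∃ u, u = g₀ * g₀ := ⟨_, rfl⟩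
    have ho : orderOf g₀ = 4 := by
      rw [hg₀, orderOf_pow_of_dvd (pow_ne_zero _ two_ne_zero) (hl ▸ pow_dvd_pow 2 (by omega)), hl, pow_add,
        Nat.mul_div_cancel_left _ (Nat.two_pow_pos _)]
      norm_num
    have hu2 : orderOf u = 2 := by rw [hu, ← pow_two, orderOf_pow, ho]; rfl
    have hg₀T : g₀ ∈ T := hg₀ ▸ pow_mem hg _
    have huT : u ∈ T := hu ▸ mul_mem hg₀T hg₀T
    have hut : u ≠ t := fun e => hgK (d.mem_kernelT.2 ⟨hg, fun a hat hao =>
      d.commute_of_root hT hTc hg (e ▸ hu ▸ hg₀ ▸ mul_mem (pow_mem (mem_zpowers g) _) (pow_mem (mem_zpowers g) _))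
        hat hao⟩)
    have huK : u ∉ kernelT d T := fun h => hut (d.eq_of_kernel hT hTc h hu2)
    have hinv : ∀ k ∈ kernelT d T, u * k * u⁻¹ = k⁻¹ := fun k hk => by
      obtain ⟨x, hx⟩ : ∃ x, x = k * u := ⟨_, rfl⟩
      have hxT : x ∈ T := hx ▸ mul_mem hk.1 huT
      have hxK : x ∉ kernelT d T := fun h => huK (by simpa [hx] using mul_mem (inv_mem hk) h)
      by_cases hxx : x * x = 1
      · rw [Invol.inv_eq_self hu2]
        rw [hx, mul_assoc] at hxx
        rw [mul_assoc]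
        exact eq_inv_of_mul_eq_one_right hxx
      exfalso
      have hmem : x * x ∈ kernelT d T := by
        have : x * x = k * (u * k * u⁻¹) * (u * u) := by rw [hx]; group
        rw [this, Invol.inv_mul_self hu2, mul_one]
        exact mul_mem hk (d.conj_kernel hT hTc huT hk)
      obtain ⟨r, hr, hr2⟩ := exists_root (even_of_mem hT (mul_mem hxT hxT) hxx) (orderOf_pos _).ne'
      obtain rfl := d.eq_of_kernel hT hTc (zpowers_le.2 hmem hr) hr2
      exact hxK (d.mem_kernelT.2 ⟨hxT, fun a hat hao =>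
        d.commute_of_root hT hTc hxT (zpowers_le.2 (mul_mem (mem_zpowers x) (mem_zpowers x)) hr) hat hao⟩)
    obtain ⟨k₀, hk₀, hKz⟩ := d.kernel_cyclic hT hTc htT hinv
    refine d.false_of_two hna htS (g₀ := g₀) (u := u) (hTdef ▸ ⟨hg₀T, hu.symm, hu2, hut, fun k hk => ?_⟩)
    obtain ⟨i, hi⟩ := mem_zpowers_iff.1 (hKz ▸ d.conj_kernel hT hTc hg₀T hk₀ : g₀ * k₀ * g₀⁻¹ ∈ zpowers k₀)
    have h1 : k₀⁻¹ = k₀ ^ (i * i) := by
      rw [← hinv k₀ hk₀, hu, show g₀ * g₀ * k₀ * (g₀ * g₀)⁻¹ = g₀ * (g₀ * k₀ * g₀⁻¹) * g₀⁻¹ by group, ← hi,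
        ← conj_zpow, ← hi, ← zpow_mul]
    have hdvd : (orderOf k₀ : ℤ) ∣ i * i + 1 := by
      rw [orderOf_dvd_iff_zpow_eq_one, zpow_add_one, ← h1, inv_mul_cancel]
    obtain ⟨e, he⟩ := two_power hT hk₀.1
    have he1 : e ≤ 1 := by
      by_contra h2
      have h4 : (4 : ℤ) ∣ i * i + 1 := by
        refine dvd_trans ?_ hdvd
        rw [he]
        exact_mod_cast (pow_dvd_pow 2 (show 2 ≤ e by omega))
      obtain ⟨j, rfl | rfl⟩ := Int.even_or_odd' i
      · ring_nf at h4; omega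
      · ring_nf at h4; omega
    by_cases hk1 : k = 1
    · exact Or.inl hk1
    refine Or.inr (d.eq_of_kernel hT hTc hk (Invol.orderOf_eq_two_of hk1 ?_))
    have h2 : orderOf k ∣ 2 :=
      (orderOf_dvd_of_mem_zpowers (hKz ▸ hk)).trans (by rw [he]; exact pow_dvd_pow 2 he1)
    have := orderOf_dvd_iff_pow_eq_one.1 h2
    rwa [pow_two] at this

end SmallData

end Cfsg.Lib.IIGroups
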