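import Cfsg.Agent.Lib.IIGroups.Big
import Cfsg.Agent.Lib.IIGroups.SmallFinal
import Cfsg.Agent.Lib.CIT.Consumers.Inputs
import Cfsg.Agent.Lib.GW.Main
import Cfsg.Agent.Lib.Linear.Suzuki.LieForm

/-!
# Simple groups with `IsII`

They are `PSL₂(F)`.
-/

set_option autoImplicit false

namespace Cfsg.Lib.IIGroups

open Subgroup
open Cfsg.Lib

universe u

variable {G : Type u} [Group G] [Finite G]

/-- An element of order four which is not normalised by a centraliser of its square. -/
theorem false_of_four (h : IsII G) {g y : G} (h2 : orderOf (g * g) = 2) (hy : Commute y (g * g))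
    (h1 : y * g * y⁻¹ ≠ g) (h3 : y * g * y⁻¹ ≠ g⁻¹) : False := by
  have hg4 : orderOf g = 4 := orderOf_eq_prime_pow (p := 2) (n := 1)
    (by rw [pow_one, pow_two]; exact Invol.ne_one h2)
    (by rw [show 2 ^ (1 + 1) = 2 * 2 from rfl, pow_mul, pow_two, pow_two]; exact Invol.inv_mul_self h2)
  have hy' : y ∈ normalizer (zpowers g : Set G) := by
    rw [h.norm_root_self (by rw [hg4]; decide) (mul_mem (mem_zpowers g) (mem_zpowers g)) h2]
    exact mem_cent.2 hy
  obtain ⟨k, hk⟩ := mem_zpowers_iff.1 ((mem_normalizer_iff.1 hy' g).1 (mem_zpowers g))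
  have hord : orderOf (g ^ k) = 4 := by rw [hk, Invol.orderOf_conj_eq, hg4]
  have hz : ∀ j : ℤ, g ^ (2 * j) = (g * g) ^ j := fun j => by rw [zpow_mul, zpow_two]
  have hgg : ∀ j : ℤ, (g * g) ^ (2 * j) = 1 := fun j => by
    rw [zpow_mul, zpow_two, Invol.inv_mul_self h2, one_zpow]
  rcases Int.even_or_odd' k with ⟨j, rfl | rfl⟩
  · have : orderOf (g ^ (2 * j)) ∣ 2 := by
      rw [hz]
      refine orderOf_dvd_of_pow_eq_one ?_
      rw [← zpow_natCast, ← zpow_mul, mul_comm]
      exact hgg j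
    rw [hord] at this
    norm_num at this
  · rcases Int.even_or_odd' j with ⟨i, rfl | rfl⟩
    · rw [zpow_add, zpow_one, hz, hgg, one_mul] at hk
      exact h1 hk.symm
    · rw [zpow_add, zpow_one, hz, zpow_add, hgg, one_mul, zpow_one] at hk
      refine h3 (hk.symm.trans ?_)
      rw [eq_inv_iff_mul_eq_one, mul_assoc]
      exact Invol.inv_mul_self h2

section Witnesses

theorem false_alt_seven (h : IsII ↥(alternatingGroup (Fin 7))) : False := by
  obtain ⟨t, ht⟩ : ∃ t : ↥(alternatingGroup (Fin 7)),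
      t = ⟨Equiv.swap 0 1 * Equiv.swap 2 3, by rw [Equiv.Perm.mem_alternatingGroup]; decide⟩ := ⟨_, rfl⟩
  obtain ⟨u, hu⟩ : ∃ u : ↥(alternatingGroup (Fin 7)),
      u = ⟨Equiv.swap 4 5 * Equiv.swap 5 6, by rw [Equiv.Perm.mem_alternatingGroup]; decide⟩ := ⟨_, rfl⟩
  obtain ⟨w, hw⟩ : ∃ w : ↥(alternatingGroup (Fin 7)),
      w = ⟨Equiv.swap 0 1 * Equiv.swap 1 2, by rw [Equiv.Perm.mem_alternatingGroup]; decide⟩ := ⟨_, rfl⟩
  have ht2 : orderOf t = 2 := orderOf_eq_prime (by subst ht; decide) (by subst ht; decide)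
  have hu3 : orderOf u = 3 :=
    haveI : Fact (Nat.Prime 3) := ⟨Nat.prime_three⟩
    orderOf_eq_prime (by subst hu; decide) (by subst hu; decide)
  have hut : Commute u t := by subst ht; subst hu; show _ * _ = _ * _; decide
  have hwu : Commute w u := by subst hw; subst hu; show _ * _ = _ * _; decide
  have hwt : ¬ Commute w t := by
    subst hw; subst ht
    intro hc
    have := hc.eq
    revert this
    decide
  exact hwt (mem_cent.1 (h.centralizer_odd_le ht2 hut (by rw [hu3]; decide)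
    (fun e => by rw [e, orderOf_one] at hu3; omega) (mem_cent.2 hwu)))

open Cfsg.Lib.Linear.Suz in
theorem false_sz {F : Type} [Field F] [Fintype F] {m : ℕ} (hp : Params F m) (h : IsII ↥(Cfsg.Sz F m)) : False := by
  obtain ⟨k, hk0, hk1⟩ := exists_ne_zero_one hp
  have hsq : uS hp 1 0 * uS hp 1 0 = uS hp 0 1 := by
    rw [uS_mul hp, add_self hp, th_one hp, one_mul, add_zero, zero_add]
  have hu2 : orderOf (uS hp (0 : F) 1) = 2 := by
    refine Invol.orderOf_eq_two_of (fun e => ?_) ?_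
    · rw [← uS_zero hp] at e
      exact one_ne_zero (uS_inj hp e).2
    · rw [uS_mul hp, add_self hp, add_self hp, th_zero hp, zero_mul, add_zero, uS_zero hp]
  refine false_of_four h (g := uS hp 1 0) (y := uS hp k 0) (hsq.symm ▸ hu2) ?_ ?_ ?_
  · rw [hsq]
    show _ * _ = _ * _
    rw [uS_mul hp, uS_mul hp, th_zero hp]; simp
  · rw [Ne, mul_inv_eq_iff_eq_mul, uS_mul hp, uS_mul hp, th_one hp]
    intro e
    have e2 := (uS_inj hp e).2
    simp only [add_zero, zero_add, mul_one, one_mul] at e2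
    rcases th_eq_self hp e2 with e3 | e3
    exacts [hk0 e3, hk1 e3]
  · rw [Ne, mul_inv_eq_iff_eq_mul, uS_inv hp, uS_mul hp, uS_mul hp, th_one hp]
    intro e
    have e2 := (uS_inj hp e).2
    simp only [add_zero, zero_add, mul_one, one_mul] at e2
    -- `th k = 1 + k` is impossible
    have e3 := congrArg (th m) e2
    rw [th_th hp, th_add hp, th_one hp, e2] at e3
    have e4 : k ^ 2 = k := by linear_combination e3 + two_eq hp
    rw [pow_two, mul_eq_left₀ hk0] at e4
    exact hk1 e4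

open Matrix in
theorem psl_mk_ne {F : Type} [Field F] {A B : Matrix.SpecialLinearGroup (Fin 3) F} (hA : A.1 0 0 = 1) (hB : B.1 0 0 = 1)
    (hne : A ≠ B) : (QuotientGroup.mk A : ProjectiveSpecialLinearGroup (Fin 3) F) ≠ QuotientGroup.mk B := by
  intro e
  rw [QuotientGroup.eq, Matrix.SpecialLinearGroup.mem_center_iff] at e
  obtain ⟨r, -, hr⟩ := e
  have hB' : B.1 = r • A.1 := by
    have h1 : B.1 = A.1 * (A⁻¹ * B).1 := by rw [← Matrix.SpecialLinearGroup.coe_mul, mul_inv_cancel_left]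
    rw [h1, ← hr, Matrix.scalar_apply, ← Matrix.smul_one_eq_diagonal, Matrix.mul_smul, Matrix.mul_one]
  have hr1 : r = 1 := by
    have h2 := congrFun (congrFun hB' 0) 0
    rw [hB, Matrix.smul_apply, hA, smul_eq_mul, mul_one] at h2
    exact h2.symm
  exact hne (Subtype.ext (by rw [hB', hr1, one_smul]))

open Matrix in
theorem false_psl34 {F : Type} [Field F] [Fintype F] (hF : Fintype.card F = 4)
    (h : IsII (ProjectiveSpecialLinearGroup (Fin 3) F)) : False := by
  have h2 : (2 : F) = 0 := by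
    have h0 : ((Fintype.card F : ℕ) : F) = 0 := Nat.cast_card_eq_zero F
    rw [hF, show (4 : ℕ) = 2 ^ 2 from rfl, Nat.cast_pow] at h0
    simpa using eq_zero_of_pow_eq_zero h0
  obtain ⟨a, ha0, ha1⟩ : ∃ a : F, a ≠ 0 ∧ a ≠ 1 := by
    classical
    by_contra hall
    push Not at hall
    have : Fintype.card F ≤ 2 := by
      refine (Finset.card_le_card (s := Finset.univ) (t := ({0, 1} : Finset F)) fun x _ => ?_).trans
        (Finset.card_le_two)
      by_cases hx : x = 0
      · simp [hx]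
      · simp [hall x hx]
    omega
  let g : Matrix.SpecialLinearGroup (Fin 3) F := ⟨!![1, 1, 0; 0, 1, 1; 0, 0, 1], by simp [det_fin_three]⟩
  let g' : Matrix.SpecialLinearGroup (Fin 3) F := ⟨!![1, 1, 1; 0, 1, 1; 0, 0, 1], by simp [det_fin_three]⟩
  let s : Matrix.SpecialLinearGroup (Fin 3) F := ⟨!![1, 0, 1; 0, 1, 0; 0, 0, 1], by simp [det_fin_three]⟩
  let y : Matrix.SpecialLinearGroup (Fin 3) F := ⟨!![1, a, 0; 0, 1, 0; 0, 0, 1], by simp [det_fin_three]⟩
  let c : Matrix.SpecialLinearGroup (Fin 3) F := ⟨!![1, 1, a; 0, 1, 1; 0, 0, 1], by simp [det_fin_three]⟩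
  have hgg : g * g = s := by
    apply Subtype.ext
    rw [Matrix.SpecialLinearGroup.coe_mul]
    try rw [Matrix.SpecialLinearGroup.coe_mul]
    ext i j
    fin_cases i <;> fin_cases j <;> simp [g, s, Matrix.SpecialLinearGroup.coe_mul, Matrix.mul_apply, Fin.sum_univ_three] <;> linear_combination h2
  have hgg' : g * g' = 1 := by
    apply Subtype.ext
    rw [Matrix.SpecialLinearGroup.coe_mul]
    try rw [Matrix.SpecialLinearGroup.coe_mul]
    ext i j
    fin_cases i <;> fin_cases j <;> simp [g, g', Matrix.SpecialLinearGroup.coe_mul, Matrix.mul_apply, Fin.sum_univ_three] <;> linear_combination h2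
  have hss : s * s = 1 := by
    apply Subtype.ext
    rw [Matrix.SpecialLinearGroup.coe_mul]
    try rw [Matrix.SpecialLinearGroup.coe_mul]
    ext i j
    fin_cases i <;> fin_cases j <;> simp [s, Matrix.SpecialLinearGroup.coe_mul, Matrix.mul_apply, Fin.sum_univ_three] <;> linear_combination h2
  have hyg : y * g = c * y := by
    apply Subtype.ext
    rw [Matrix.SpecialLinearGroup.coe_mul]
    try rw [Matrix.SpecialLinearGroup.coe_mul]
    ext i j
    fin_cases i <;> fin_cases j <;> simp [g, y, c, Matrix.SpecialLinearGroup.coe_mul, Matrix.mul_apply, Fin.sum_univ_three] <;> ring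
  have hys : y * s = s * y := by
    apply Subtype.ext
    rw [Matrix.SpecialLinearGroup.coe_mul]
    try rw [Matrix.SpecialLinearGroup.coe_mul]
    ext i j
    fin_cases i <;> fin_cases j <;> simp [y, s, Matrix.SpecialLinearGroup.coe_mul, Matrix.mul_apply, Fin.sum_univ_three]
  have hconj : y * g * y⁻¹ = c := by rw [hyg, mul_inv_cancel_right]
  have hne : ∀ d : Matrix.SpecialLinearGroup (Fin 3) F, d.1 0 0 = 1 → c.1 0 2 ≠ d.1 0 2 →
      (QuotientGroup.mk c : ProjectiveSpecialLinearGroup (Fin 3) F) ≠ QuotientGroup.mk d := fun d hd hcd =>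
    psl_mk_ne (by simp [c]) hd fun e => hcd (by rw [e])
  refine false_of_four h (g := (QuotientGroup.mk g : ProjectiveSpecialLinearGroup (Fin 3) F))
    (y := QuotientGroup.mk y) ?_ ?_ ?_ ?_
  · rw [← QuotientGroup.mk_mul, hgg]
    refine Invol.orderOf_eq_two_of ?_ (by rw [← QuotientGroup.mk_mul, hss, QuotientGroup.mk_one])
    rw [← QuotientGroup.mk_one]
    exact psl_mk_ne (by simp [s]) (by simp) fun e => by
      have := congrFun (congrFun (congrArg Subtype.val e) 0) 2
      simp [s] at this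
  · rw [← QuotientGroup.mk_mul, hgg]
    show _ * _ = _ * _
    rw [← QuotientGroup.mk_mul, hys, QuotientGroup.mk_mul]
  · rw [← QuotientGroup.mk_mul, ← QuotientGroup.mk_inv, ← QuotientGroup.mk_mul, hconj]
    exact hne g (by simp [g]) (by simp [c, g, ha0])
  · rw [← QuotientGroup.mk_mul, ← QuotientGroup.mk_inv, ← QuotientGroup.mk_mul, hconj, ← QuotientGroup.mk_inv,
      inv_eq_of_mul_eq_one_right hgg']
    exact hne g' (by simp [g']) (by simp [c, g', ha1])

end Witnesses

theorem not_isoSuzuki (h : IsII G) (hS : Cfsg.Lie.IsoSuzuki G) : False := by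
  obtain ⟨F, _, _, m, hm, hF, ⟨e⟩⟩ := hS
  obtain ⟨e', -⟩ := Cfsg.Lib.Linear.Suz.exists_lie_equiv (F := F) (m := m) ⟨hm, hF⟩
  exact false_sz ⟨hm, hF⟩ ((h.of_equiv e).of_equiv e'.symm)

/-- A non-abelian simple group with `IsII` is some `PSL₂(F)`. -/
theorem simple_case (h : IsII G) [IsSimpleGroup G] (hna : ¬ IsMulCommutative G) :
    ∃ (F : Type) (_ : Field F) (_ : Fintype F), Nonempty (G ≃* Matrix.ProjectiveSpecialLinearGroup (Fin 2) F) := by
  by_cases hC : ∀ t : G, ¬ IsGood t
  · have hG : CIT.IsCIT G := fun t ht => not_good ht (hC t)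
    rcases CIT.citListHolds G hna hG with ⟨F, i, j, -, e⟩ | ⟨F, _, _, hF, ⟨e⟩⟩ | hS
    · exact ⟨F, i, j, e⟩
    · exact (false_psl34 hF (h.of_equiv e)).elim
    · exact (not_isoSuzuki h (CIT.suzukiIso G hna hG hS)).elim
  push Not at hC
  obtain ⟨t, ht⟩ := hC
  by_cases hB : ∃ r v : G, IsGood r ∧ orderOf v = 2 ∧
      centralizer ({v} : Set G) = centralizer ({r} : Set G) ∧ v ≠ r
  · obtain ⟨r, v, hr, hv, hvr, hne⟩ := hB
    have hD := (BigData.mk h hr hv hne hvr).tiData hna
    rcases SuzUnique.simple_zassenhaus (CIT.isZassenhausGroup hD) with hP | hS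
    · exact hP
    · exact (not_isoSuzuki h hS).elim
  · have hd : SmallData t := ⟨h, ht, fun r v hr hv hvr => by_contra fun hne => hB ⟨r, v, hr, hv, hvr, hne⟩⟩
    rcases GW.simpleGW G hna (hd.sylowDihedral hna) with ⟨F, i, j, -, -, e⟩ | ⟨⟨e⟩⟩
    · exact ⟨F, i, j, e⟩
    · exact (false_alt_seven (h.of_equiv e)).elim

end Cfsg.Lib.IIGroups
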