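import Cfsg.Agent.Lib.IIGroups.Basic
import Cfsg.Agent.Lib.CIT.TIBranch
import Cfsg.Agent.Lib.ZStar.Main
import Cfsg.Agent.Lib.PGroup.CentralizerSq
import Cfsg.Agent.Lib.TwoGroup.MaximalClass
import Cfsg.Agent.Lib.TwoGroup.Models
import Cfsg.Agent.Lib.Invol.AbelianCentralizers.Basic
import Cfsg.Agent.Lib.Plane.Orbits
import Cfsg.Agent.Lib.GW.Basic

/-!
# A good involution alone with its centraliser

In a non-abelian simple group with `IsII`, if no other involution has the centraliser of the good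
involution `t`, then the Sylow 2-subgroups are dihedral.
-/

set_option autoImplicit false

namespace Cfsg.Lib.IIGroups

open Subgroup
open Cfsg.Lib

universe u

variable {G : Type u} [Group G] [Finite G]

omit [Finite G] in
theorem two_power {T : Subgroup G} (hT : IsPGroup 2 ↥T) {x : G} (hx : x ∈ T) : ∃ k : ℕ, orderOf x = 2 ^ k := by
  haveI : Fact (Nat.Prime 2) := ⟨Nat.prime_two⟩
  obtain ⟨k, hk⟩ := IsPGroup.iff_orderOf.1 hT ⟨x, hx⟩
  exact ⟨k, by rwa [Subgroup.orderOf_mk] at hk⟩

omit [Finite G] in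
theorem eq_one_of_odd {T : Subgroup G} (hT : IsPGroup 2 ↥T) {x : G} (hx : x ∈ T) (ho : Odd (orderOf x)) :
    x = 1 := by
  obtain ⟨k, hk⟩ := two_power hT hx
  rw [hk] at ho
  rcases Nat.eq_zero_or_pos k with rfl | hk0
  · rw [pow_zero] at hk; exact orderOf_eq_one_iff.1 hk
  · exact absurd ho (Nat.not_odd_iff_even.2 ((Nat.even_pow' (by omega)).2 even_two))

omit [Finite G] in
theorem even_of_mem {T : Subgroup G} (hT : IsPGroup 2 ↥T) {x : G} (hx : x ∈ T) (h1 : x ≠ 1) :
    Even (orderOf x) :=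
  Nat.not_odd_iff_even.1 fun ho => h1 (eq_one_of_odd hT hx ho)

/-- A 2-group with a self-centralising four group is dihedral, semidihedral or quaternion; under the
hypothesis on its elements of order `4` it is dihedral. -/
theorem dihedral_of_four {X : Type u} [Group X] [Finite X] (hX : IsPGroup 2 X) {n : ℕ} (hn : 3 ≤ n)
    (hcard : Nat.card X = 2 ^ n) {t : X} (ht : orderOf t = 2)
    (hC : Nat.card ↥(centralizer ({t} : Set X)) = 4)
    (hnorm : ∀ g : X, ∀ z ∈ center X, orderOf g = 4 → g * g = z → ∀ x : X, x * g * x⁻¹ ∈ zpowers g) :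
    ∃ m : ℕ, 2 ≤ m ∧ Nonempty (X ≃* DihedralGroup m) := by
  classical
  haveI : Fact (Nat.Prime 2) := ⟨Nat.prime_two⟩
  have hidx : (commutator X).index = 4 := by
    have hle : (commutator X).index ≤ 4 := by
      have hinj : Function.Injective (fun q : X ⧸ centralizer ({t} : Set X) =>
          (⟨q.out * t * q.out⁻¹ * t⁻¹, by
            rw [← commutatorElement_def, _root_.commutator_def]
            exact commutator_mem_commutator (mem_top _) (mem_top _)⟩ : ↥(commutator X))) := by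
        intro q r e
        have e' := congrArg Subtype.val e
        simp only [mul_left_inj] at e'
        rw [← q.out_eq', ← r.out_eq', QuotientGroup.eq, mem_cent]
        show q.out⁻¹ * r.out * t = t * (q.out⁻¹ * r.out)
        calc q.out⁻¹ * r.out * t = q.out⁻¹ * (r.out * t * r.out⁻¹) * r.out := by group
          _ = q.out⁻¹ * (q.out * t * q.out⁻¹) * r.out := by rw [e']
          _ = t * (q.out⁻¹ * r.out) := by group
      have h1 := Nat.card_le_card_of_injective _ hinj
      have h2 := Subgroup.card_eq_card_quotient_mul_card_subgroup (centralizer ({t} : Set X))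
      rw [hC, ← card_mul_index (commutator X)] at h2
      by_contra h4
      push Not at h4
      have : Nat.card ↥(commutator X) * 4 < Nat.card ↥(commutator X) * (commutator X).index :=
        (Nat.mul_lt_mul_left Nat.card_pos).2 h4
      rw [h2] at this
      have := Nat.mul_le_mul_right 4 h1
      omega
    obtain ⟨i, hi⟩ := hX.index (commutator X)
    have hnc : ¬ IsCyclic X := fun hc => by
      have htc : centralizer ({t} : Set X) = ⊤ := eq_top_iff.2 fun x _ => mem_cent.2 (by
        letI := hc.commGroup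
        exact mul_comm x t)
      rw [htc, card_top, hcard] at hC
      have : 2 ^ 3 ≤ 2 ^ n := Nat.pow_le_pow_right two_pos hn
      omega
    have h2 : ¬ (commutator X).index ≤ 2 := fun h => hnc (Cfsg.Lib.PGroup.CentralizerSq.isCyclic_of_index_commutator_le hX h)
    rw [hi] at hle h2 ⊢
    have hi2 : i = 2 := by
      rcases Nat.lt_or_ge i 2 with h | h
      · exact absurd (le_trans (Nat.pow_le_pow_right two_pos (show i ≤ 1 by omega)) (by norm_num)) h2
      · by_contra hne
        have : 2 ^ 3 ≤ 2 ^ i := Nat.pow_le_pow_right two_pos (by omega)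
        omega
    rw [hi2]; norm_num
  obtain ⟨a, b, ha, hb, htop, hrel⟩ := Cfsg.Lib.TwoGroup.MaximalClass.exists_generators_of_class hn hcard
    (Cfsg.Lib.TwoGroup.MaximalClass.class_of_index_four n hn X hcard hidx)
  obtain ⟨w, rfl⟩ : ∃ w, n = w + 3 := ⟨n - 3, by omega⟩
  simp only [show w + 3 - 1 = w + 2 by omega, show w + 3 - 2 = w + 1 by omega] at ha hrel
  rcases hrel with ⟨hb2, hba⟩ | ⟨hb2, hba⟩ | ⟨hn4, hb2, hba⟩
  · obtain ⟨e⟩ := Cfsg.Lib.TwoGroup.equiv_dihedral (by rw [← pow_two]; exact hb2) hba hb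
    rw [htop] at e
    exact ⟨2 ^ (w + 2), le_self_pow₀ one_le_two (by omega), ⟨Subgroup.topEquiv.symm.trans (ha ▸ e)⟩⟩
  · -- quaternion: one involution
    exfalso
    have hzz : b * a ^ (2 ^ (w + 1)) * b⁻¹ = a ^ (2 ^ (w + 1)) := by
      rw [← hb2]; group
    have hai : (zpowers a).index = 2 := by
      refine Nat.eq_of_mul_eq_mul_left (Nat.card_pos (α := zpowers a)) ?_
      rw [card_mul_index, hcard, Nat.card_zpowers, ha]; ring
    obtain ⟨k, hk⟩ : ∃ k : ℤ, a ^ k = t := by
      by_contra hna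
      have ht' : t ∉ zpowers a := fun h => hna (mem_zpowers_iff.1 h)
      obtain ⟨i, hi⟩ := mem_zpowers_iff.1 ((mul_mem_iff_of_index_two hai (a := b⁻¹) (b := t)).2
        (iff_of_false (fun h => hb (by simpa using inv_mem h)) ht'))
      have hsq := Invol.inv_mul_self ht
      rw [show t = b * a ^ i by rw [hi]; group] at hsq
      have e : b * a ^ i * (b * a ^ i) = b ^ 2 := by
        have hc : b * a ^ i * b⁻¹ = a ^ (-i) := Invol.conj_zpow_of_inverts hba i
        calc b * a ^ i * (b * a ^ i) = (b * a ^ i * b⁻¹) * b ^ 2 * a ^ i := by group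
          _ = a ^ (-i) * a ^ (2 ^ (w + 1)) * a ^ i := by rw [hc, hb2]
          _ = a ^ (2 ^ (w + 1)) := by
            rw [← zpow_natCast a, ← zpow_add, ← zpow_add]; congr 1; ring
          _ = b ^ 2 := hb2.symm
      rw [e, hb2] at hsq
      have := orderOf_dvd_of_pow_eq_one hsq
      rw [ha, Nat.pow_dvd_pow_iff_le_right one_lt_two] at this
      omega
    have hct : Commute b t := by
      have hc : b * t * b⁻¹ = t⁻¹ := by rw [← hk, Invol.conj_zpow_of_inverts hba k, zpow_neg]
      rw [Invol.inv_eq_self ht] at hc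
      exact mul_inv_eq_iff_eq_mul.1 hc
    have hall : closure ({a, b} : Set X) ≤ centralizer ({t} : Set X) := by
      refine (closure_le _).2 ?_
      rintro x (rfl | rfl)
      · exact mem_cent.2 (hk ▸ (Commute.refl _).zpow_right k)
      · exact mem_cent.2 hct
    rw [htop, top_le_iff] at hall
    rw [hall, card_top, hcard] at hC
    have : 2 ^ 3 ≤ 2 ^ (w + 3) := Nat.pow_le_pow_right two_pos (by omega)
    omega
  · -- semidihedral: an element of order four is not normalised
    exfalso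
    obtain ⟨v, rfl⟩ : ∃ v, w = v + 1 := ⟨w - 1, by omega⟩
    have hbb : b * b = 1 := by rw [← pow_two]; exact hb2
    have hc : ∀ i : ℤ, b * a ^ i * b⁻¹ = a ^ (((2 ^ (v + 2) - 1 : ℕ) : ℤ) * i) := fun i => by
      rw [← conj_zpow, hba, ← zpow_natCast, ← zpow_mul]
    have hone : ((2 ^ (v + 2) - 1 : ℕ) : ℤ) = 2 ^ (v + 2) - 1 := by
      rw [Nat.cast_sub (Nat.one_le_two_pow)]; push_cast; rfl
    have hbi : b⁻¹ = b := inv_eq_of_mul_eq_one_left hbb
    have hsq : a * b * (a * b) = a ^ ((2 : ℤ) ^ (v + 2)) := by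
      calc a * b * (a * b) = a * (b * a ^ (1 : ℤ) * b⁻¹) := by rw [hbi, zpow_one]; group
        _ = a ^ ((2 : ℤ) ^ (v + 2)) := by
          rw [hc, hone, ← zpow_one_add, mul_one]; congr 1; ring
    have hz2 : a ^ ((2 : ℤ) ^ (v + 2)) * a ^ ((2 : ℤ) ^ (v + 2)) = 1 := by
      rw [← zpow_add, ← orderOf_dvd_iff_zpow_eq_one, ha]
      exact ⟨1, by push_cast; ring⟩
    have hz1 : a ^ ((2 : ℤ) ^ (v + 2)) ≠ 1 := by
      rw [Ne, ← orderOf_dvd_iff_zpow_eq_one, ha]
      intro h
      have h' : 2 ^ (v + 1 + 2) ∣ 2 ^ (v + 2) := by exact_mod_cast h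
      rw [Nat.pow_dvd_pow_iff_le_right one_lt_two] at h'
      omega
    have hzc : a ^ ((2 : ℤ) ^ (v + 2)) ∈ center X := by
      rw [mem_center_iff]
      intro g
      have hle : closure ({a, b} : Set X) ≤ centralizer ({a ^ ((2 : ℤ) ^ (v + 2))} : Set X) := by
        refine (closure_le _).2 ?_
        rintro x (rfl | rfl)
        · exact mem_cent.2 ((Commute.refl _).zpow_right _)
        · refine mem_cent.2 (mul_inv_eq_iff_eq_mul.1 ?_)
          rw [hc, hone, zpow_eq_zpow_iff_modEq, ha, Int.modEq_iff_dvd]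
          exact ⟨1 - 2 ^ (v + 1), by push_cast; ring⟩
      rw [htop] at hle
      exact (mem_cent.1 (hle (mem_top g))).eq
    have ho4 : orderOf (a * b) = 4 := orderOf_eq_prime_pow (p := 2) (n := 1)
      (by rw [pow_one, pow_two, hsq]; exact hz1)
      (by rw [show 2 ^ (1 + 1) = 2 * 2 from rfl, pow_mul, pow_two, pow_two, hsq]; exact hz2)
    obtain ⟨k, hk⟩ := mem_zpowers_iff.1 (hnorm (a * b) _ hzc ho4 hsq a)
    have hconj : a * (a * b) * a⁻¹ = a ^ (3 - (2 : ℤ) ^ (v + 2)) * b := by
      calc a * (a * b) * a⁻¹ = a ^ (2 : ℤ) * (b * a ^ (-1 : ℤ) * b⁻¹) * b := by simp [zpow_ofNat, pow_two, mul_assoc]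
        _ = _ := by rw [hc, hone, ← zpow_add]; congr 2; ring
    rw [hconj] at hk
    have hz : ∀ j : ℤ, (a * b) ^ (2 * j) = a ^ ((2 : ℤ) ^ (v + 2) * j) := fun j => by
      rw [zpow_mul, zpow_two, hsq, ← zpow_mul]
    rcases Int.even_or_odd' k with ⟨j, rfl | rfl⟩
    · rw [hz] at hk
      refine hb ?_
      have e : b = (a ^ (3 - (2 : ℤ) ^ (v + 2)))⁻¹ * a ^ ((2 : ℤ) ^ (v + 2) * j) := by rw [hk]; group
      rw [e]
      exact mul_mem (inv_mem (zpow_mem (mem_zpowers a) _)) (zpow_mem (mem_zpowers a) _)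
    · rw [zpow_add, hz, zpow_one, ← mul_assoc, mul_left_inj, ← zpow_add_one, zpow_eq_zpow_iff_modEq, ha,
        Int.modEq_iff_dvd] at hk
      obtain ⟨c, hc'⟩ := hk
      have h4 : (4 : ℤ) ∣ 2 := by
        refine ⟨2 ^ (v + 1) * c + 2 ^ v * (1 + j), ?_⟩
        push_cast at hc'
        rw [pow_add (2 : ℤ) v 2, pow_add (2 : ℤ) v 1] at *
        rw [show v + 1 + 2 = v + 3 by omega, pow_add (2 : ℤ) v 3] at hc'
        linarith
      norm_num at h4

/-- The data of this file. -/
structure SmallData (t : G) : Prop where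
  ii : IsII G
  good : IsGood t
  alone : ∀ r v : G, IsGood r → orderOf v = 2 →
    centralizer ({v} : Set G) = centralizer ({r} : Set G) → v = r

namespace SmallData

variable {t : G} (d : SmallData t) {T : Subgroup G} (hT : IsPGroup 2 ↥T) (hTc : ∀ x ∈ T, Commute x t) (htT : t ∈ T)
include d hT hTc

theorem root_inverts {r a : G} (hr : r ∈ T) (hr2 : orderOf r = 2) (hrt : r ≠ t) (hat : Commute a t)
    (hao : Odd (orderOf a)) : r * a * r⁻¹ = a⁻¹ :=
  d.ii.inverts d.good.1 hr2 (hTc r hr) (fun e => hrt (d.alone t r d.good hr2 e)) hat hao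

/-- Two commuting involutions of `T` other than `t` are equal or multiply to `t`. -/
theorem mul_eq {r s : G} (hr : r ∈ T) (hr2 : orderOf r = 2) (hrt : r ≠ t) (hs : s ∈ T) (hs2 : orderOf s = 2)
    (hst : s ≠ t) (hrs : Commute r s) (hne : r ≠ s) : r * s = t := by
  have h1 := d.ii.cent_eq_of_inverters d.good hr2 (hTc r hr) (fun e => hrt (d.alone t r d.good hr2 e)) hs2
    (hTc s hs) (fun e => hst (d.alone t s d.good hs2 e)) hrs hne
  refine d.alone t _ d.good (Invol.orderOf_eq_two_of (fun e => hne ?_) ?_) h1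
  · rw [eq_inv_of_mul_eq_one_left e, Invol.inv_eq_self hs2]
  · rw [hrs.symm.mul_mul_mul_comm, Invol.inv_mul_self hr2, Invol.inv_mul_self hs2, one_mul]

/-- An element whose root is `t` centralises the odd part of `C(t)`. -/
theorem commute_of_root {x a : G} (hx : x ∈ T) (hr : t ∈ zpowers x) (hat : Commute a t)
    (hao : Odd (orderOf a)) : Commute x a := by
  have hx1 : x ≠ 1 := fun e => by
    rw [e, zpowers_one_eq_bot, mem_bot] at hr; exact Invol.ne_one d.good.1 hr
  have hn := d.ii.norm_root_self (even_of_mem hT hx hx1) hr d.good.1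
  have h1 : a * x * a⁻¹ ∈ zpowers x :=
    (mem_normalizer_iff.1 (hn.symm ▸ mem_cent.2 hat : a ∈ normalizer (zpowers x : Set G)) x).1 (mem_zpowers x)
  have h2 : a * x * a⁻¹ * x⁻¹ ∈ zpowers x := mul_mem h1 (inv_mem (mem_zpowers x))
  have h3 : a * x * a⁻¹ * x⁻¹ ∈ oddPart d.ii d.good.1 := by
    have hai : a⁻¹ ∈ oddPart d.ii d.good.1 := inv_mem ⟨hat, hao⟩
    have h4 := d.ii.oddPart_conj d.good.1 x (mem_cent.2 (hTc x hx)) _ hai
    have : a * x * a⁻¹ * x⁻¹ = a * (x * a⁻¹ * x⁻¹) := by group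
    rw [this]
    exact mul_mem (show a ∈ oddPart d.ii d.good.1 from ⟨hat, hao⟩) h4
  have h5 := eq_one_of_odd hT (zpowers_le.2 hx h2) h3.2
  exact (mul_inv_eq_iff_eq_mul.1 (mul_inv_eq_one.1 h5)).symm

end SmallData

end Cfsg.Lib.IIGroups
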