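import Cfsg.Agent.Lib.IIGroups.Small

/-!
# A good involution alone with its centraliser: the Sylow 2-subgroups are dihedral
-/

set_option autoImplicit false

namespace Cfsg.Lib.IIGroups

open Subgroup
open Cfsg.Lib

universe u

variable {G : Type u} [Group G] [Finite G]

namespace SmallData

variable {t : G} (d : SmallData t) {T : Subgroup G} (hT : IsPGroup 2 ↥T) (hTc : ∀ x ∈ T, Commute x t) (htT : t ∈ T)
include d hT hTc

/-- The elements of `T` centralising the odd part of `C(t)`. -/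
def kernelT (_hd : SmallData t) (T : Subgroup G) : Subgroup G :=
  T ⊓ centralizer {a : G | Commute a t ∧ Odd (orderOf a)}

omit hT hTc in
theorem mem_kernelT {x : G} :
    x ∈ kernelT d T ↔ x ∈ T ∧ ∀ a, Commute a t → Odd (orderOf a) → Commute x a := by
  rw [kernelT, mem_inf, mem_centralizer_iff]
  exact and_congr_right fun _ => ⟨fun h a h1 h2 => (h a ⟨h1, h2⟩).symm, fun h a ha => (h a ha.1 ha.2).symm⟩

theorem eq_of_kernel {r : G} (hr : r ∈ kernelT d T) (hr2 : orderOf r = 2) : r = t := by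
  by_contra hrt
  obtain ⟨hrT, hrc⟩ := d.mem_kernelT.1 hr
  obtain ⟨-, a, hat, hao, ha1⟩ := d.good
  have h1 := d.root_inverts hT hTc hrT hr2 hrt hat hao
  rw [(hrc a hat hao).eq, mul_inv_cancel_right] at h1
  have h2 : a ^ 2 = 1 := by rw [pow_two]; nth_rw 1 [h1]; exact inv_mul_cancel a
  exact ha1 (orderOf_eq_one_iff.1 (Nat.eq_one_of_dvd_coprimes (Nat.coprime_two_right.2 hao) dvd_rfl
    (orderOf_dvd_of_pow_eq_one h2)))

theorem conj_kernel {x k : G} (hx : x ∈ T) (hk : k ∈ kernelT d T) : x * k * x⁻¹ ∈ kernelT d T := by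
  obtain ⟨hkT, hkc⟩ := d.mem_kernelT.1 hk
  refine d.mem_kernelT.2 ⟨mul_mem (mul_mem hx hkT) (inv_mem hx), fun a hat hao => ?_⟩
  have h1 := d.ii.oddPart_conj d.good.1 x⁻¹ (inv_mem (mem_cent.2 (hTc x hx))) a ⟨hat, hao⟩
  rw [inv_inv] at h1
  have h2 := hkc _ h1.1 h1.2
  show x * k * x⁻¹ * a = a * (x * k * x⁻¹)
  calc x * k * x⁻¹ * a = x * (k * (x⁻¹ * a * x)) * x⁻¹ := by group
    _ = x * (x⁻¹ * a * x * k) * x⁻¹ := by rw [h2.eq]
    _ = a * (x * k * x⁻¹) := by group

theorem commutator_mem {x y : G} (hx : x ∈ T) (hy : y ∈ T) : x * y * x⁻¹ * y⁻¹ ∈ kernelT d T := by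
  refine d.mem_kernelT.2 ⟨mul_mem (mul_mem (mul_mem hx hy) (inv_mem hx)) (inv_mem hy), fun a hat hao => ?_⟩
  rcases eq_or_ne a 1 with rfl | ha1
  · exact Commute.one_right _
  have hn : ∀ z ∈ T, ∃ i : ℤ, z * a * z⁻¹ = a ^ i := fun z hz => by
    have h1 : z ∈ normalizer (zpowers a : Set G) := by
      rw [d.ii.norm_odd d.good.1 hat hao ha1]; exact mem_cent.2 (hTc z hz)
    obtain ⟨i, hi⟩ := mem_zpowers_iff.1 ((mem_normalizer_iff.1 h1 a).1 (mem_zpowers a))
    exact ⟨i, hi.symm⟩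
  obtain ⟨i, hi⟩ := hn x hx
  obtain ⟨j, hj⟩ := hn y hy
  have e : y * x * a * (y * x)⁻¹ = x * y * a * (x * y)⁻¹ := by
    rw [show y * x * a * (y * x)⁻¹ = y * (x * a * x⁻¹) * y⁻¹ by group,
      show x * y * a * (x * y)⁻¹ = x * (y * a * y⁻¹) * x⁻¹ by group, hi, hj, ← conj_zpow, ← conj_zpow, hi, hj,
      ← zpow_mul, ← zpow_mul, mul_comm]
  show x * y * x⁻¹ * y⁻¹ * a = a * (x * y * x⁻¹ * y⁻¹)
  calc x * y * x⁻¹ * y⁻¹ * a = x * y * ((y * x)⁻¹ * a * (y * x)) * (x⁻¹ * y⁻¹) := by group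
    _ = x * y * ((x * y)⁻¹ * a * (x * y)) * (x⁻¹ * y⁻¹) := by
      congr 2
      have key : y * x * ((x * y)⁻¹ * a * (x * y)) * (y * x)⁻¹ = a := by
        have hm : ∀ w : G, (∃ i : ℤ, w = a ^ i) → y * x * w * (y * x)⁻¹ = x * y * w * (x * y)⁻¹ := by
          rintro w ⟨k, rfl⟩
          rw [← conj_zpow, e, conj_zpow]
        rw [hm _ ?_]
        · group
        · have h1 : (x * y)⁻¹ ∈ normalizer (zpowers a : Set G) := by
            rw [d.ii.norm_odd d.good.1 hat hao ha1]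
            exact inv_mem (mem_cent.2 ((hTc x hx).mul_left (hTc y hy)))
          have h2 := (mem_normalizer_iff.1 h1 a).1 (mem_zpowers a)
          rw [inv_inv] at h2
          obtain ⟨k, hk⟩ := mem_zpowers_iff.1 h2
          exact ⟨k, hk.symm⟩
      conv_lhs => rw [← key]
      group
    _ = a * (x * y * x⁻¹ * y⁻¹) := by group

include htT

theorem kernel_cyclic {s : G} (hinv : ∀ k ∈ kernelT d T, s * k * s⁻¹ = k⁻¹) :
    ∃ k₀ ∈ kernelT d T, kernelT d T = zpowers k₀ := by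
  letI : CommGroup ↥(kernelT d T) :=
    { (inferInstance : Group ↥(kernelT d T)) with
      mul_comm := fun a b => Subtype.ext (by
        have h := hinv _ (mul_mem a.2 b.2)
        rw [show s * ((a : G) * b) * s⁻¹ = s * (a : G) * s⁻¹ * (s * b * s⁻¹) by group, hinv _ a.2, hinv _ b.2,
          ← mul_inv_rev] at h
        exact (inv_inj.1 h).symm) }
  have hp : IsPGroup 2 ↥(kernelT d T) := hT.to_le inf_le_left
  haveI : IsCyclic ↥(kernelT d T) := Invol.AC.isCyclic_of_unique_invol hp fun x y hx hy => Subtype.ext (by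
    rw [d.eq_of_kernel hT hTc x.2 (by rw [Subgroup.orderOf_coe]; exact hx),
      d.eq_of_kernel hT hTc y.2 (by rw [Subgroup.orderOf_coe]; exact hy)])
  obtain ⟨k₀, hk⟩ := IsCyclic.exists_generator (α := ↥(kernelT d T))
  refine ⟨k₀, k₀.2, le_antisymm (fun x hx => ?_) (zpowers_le.2 k₀.2)⟩
  obtain ⟨i, hi⟩ := mem_zpowers_iff.1 (hk ⟨x, hx⟩)
  exact ⟨i, by simpa using congrArg Subtype.val hi⟩

/-- The dihedral case. -/
theorem generators (hI : ∀ x ∈ T, x ∉ kernelT d T → x * x = 1) {s : G} (hs : s ∈ T) (hsK : s ∉ kernelT d T) :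
    ∃ k₀ : G, k₀ ∈ T ∧ 2 ≤ orderOf k₀ ∧ s * k₀ * s⁻¹ = k₀⁻¹ ∧
      Nonempty (↥T ≃* DihedralGroup (orderOf k₀)) ∧ kernelT d T = zpowers k₀ := by
  have hss := hI s hs hsK
  have hinv : ∀ k ∈ kernelT d T, s * k * s⁻¹ = k⁻¹ := fun k hk => by
    have h1 := hI (s * k) (mul_mem hs hk.1) fun h => hsK (by simpa using mul_mem h (inv_mem hk))
    rw [inv_eq_of_mul_eq_one_left hss]
    exact eq_inv_of_mul_eq_one_left (by rw [mul_assoc] at h1 ⊢; rw [mul_assoc]; exact h1)
  obtain ⟨k₀, hk₀, hK⟩ := d.kernel_cyclic hT hTc htT hinv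
  have htK : t ∈ zpowers k₀ := hK ▸ d.mem_kernelT.2 ⟨htT, fun a hat _ => hat.symm⟩
  have hinvert : ∀ x ∈ T, x ∉ kernelT d T → ∀ a, Commute a t → Odd (orderOf a) → x * a * x⁻¹ = a⁻¹ :=
    fun x hx hxK a hat hao => d.root_inverts hT hTc hx
      (Invol.orderOf_eq_two_of (fun e => hxK (e ▸ one_mem _)) (hI x hx hxK))
      (fun e => hxK (e ▸ d.mem_kernelT.2 ⟨htT, fun b hb _ => hb.symm⟩)) hat hao
  have htop : closure ({k₀, s} : Set G) = T := by
    refine le_antisymm ((closure_le _).2 ?_) fun x hx => ?_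
    · rintro y (rfl | rfl)
      · exact hk₀.1
      · exact hs
    by_cases hxK : x ∈ kernelT d T
    · rw [hK] at hxK
      exact (zpowers_le.2 (subset_closure (by simp))) hxK
    · have hm : x * s ∈ kernelT d T := d.mem_kernelT.2 ⟨mul_mem hx hs, fun a hat hao => by
        refine (mul_inv_eq_iff_eq_mul.1 ?_)
        rw [show x * s * a * (x * s)⁻¹ = x * (s * a * s⁻¹) * x⁻¹ by group, hinvert s hs hsK a hat hao,
          ← conj_inv, hinvert x hx hxK a hat hao, inv_inv]⟩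
      rw [hK] at hm
      have e : x = x * s * s := by rw [mul_assoc, hss, mul_one]
      rw [e]
      exact mul_mem ((zpowers_le.2 (subset_closure (by simp))) hm) (subset_closure (by simp))
  refine ⟨k₀, hk₀.1, ?_, hinv k₀ hk₀, ?_, hK⟩
  · have := orderOf_dvd_of_mem_zpowers htK
    rw [d.good.1] at this
    exact Nat.le_of_dvd (orderOf_pos _) this
  · obtain ⟨e⟩ := Cfsg.Lib.TwoGroup.equiv_dihedral hss (hinv k₀ hk₀) fun h => hsK (hK ▸ h)
    rw [htop] at e
    exact ⟨e⟩

end SmallData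

/-- The square involutions of `T` in the second case. -/
structure TwoData {t : G} (d : SmallData t) (T : Subgroup G) (g₀ u : G) : Prop where
  mem : g₀ ∈ T
  sq : g₀ * g₀ = u
  ord : orderOf u = 2
  ne : u ≠ t
  kernel : ∀ k ∈ SmallData.kernelT d T, k = 1 ∨ k = t

namespace TwoData

variable {t : G} {d : SmallData t} {T : Subgroup G} {g₀ u : G} (c : TwoData d T g₀ u) (hT : IsPGroup 2 ↥T)
  (hTc : ∀ x ∈ T, Commute x t) (htT : t ∈ T)
include c hT hTc

theorem sq_eq {x : G} (hx : x ∈ T) (h2 : orderOf (x * x) = 2) : x * x = u := by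
  by_contra hne
  have hxt : x * x ≠ t := fun e => by
    have hxk : x ∈ SmallData.kernelT d T := SmallData.mem_kernelT d |>.2 ⟨hx, fun a hat hao =>
      d.commute_of_root hT hTc hx (e ▸ mul_mem (mem_zpowers x) (mem_zpowers x)) hat hao⟩
    rcases c.kernel x hxk with e1 | e1 <;> rw [e1] at h2 e
    · exact Invol.ne_one d.good.1 (by rw [← e, mul_one])
    · rw [Invol.inv_mul_self d.good.1, orderOf_one] at h2; omega
  have hut : u ∈ T := c.sq ▸ mul_mem c.mem c.mem
  obtain ⟨e, he, hxg⟩ : ∃ e, (e = 1 ∨ e = t) ∧ g₀ * x = e * (x * g₀) := by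
    refine ⟨g₀ * x * g₀⁻¹ * x⁻¹, c.kernel _ (d.commutator_mem hT hTc c.mem hx), by group⟩
  have hec : ∀ y ∈ T, Commute e y := fun y hy => by
    rcases he with rfl | rfl
    · exact Commute.one_left y
    · exact (hTc y hy).symm
  have hcomm : Commute (x * x) u := by
    have h1 : g₀ * (x * x) = x * x * g₀ := by
      calc g₀ * (x * x) = g₀ * x * x := by group
        _ = e * (x * g₀) * x := by rw [hxg]
        _ = e * x * (g₀ * x) := by group
        _ = e * x * (e * (x * g₀)) := by rw [hxg]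
        _ = e * (x * e) * (x * g₀) := by group
        _ = e * (e * x) * (x * g₀) := by rw [← (hec x hx).eq]
        _ = x * x * g₀ := by
          rcases he with he | he <;> rw [he]
          · group
          · rw [← mul_assoc t t x, Invol.inv_mul_self d.good.1]; group
    rw [← c.sq]
    exact (Commute.mul_right (show Commute (x * x) g₀ from h1.symm) h1.symm)
  have hru := d.mul_eq hT hTc (mul_mem hx hx) h2 hxt hut c.ord c.ne hcomm hne
  have hw : x * g₀ * (x * g₀) = e * t := by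
    calc x * g₀ * (x * g₀) = x * (g₀ * x) * g₀ := by group
      _ = x * (e * (x * g₀)) * g₀ := by rw [hxg]
      _ = e * (x * x) * (g₀ * g₀) := by rw [← mul_assoc x e, ← (hec x hx).eq]; group
      _ = e * t := by rw [c.sq, mul_assoc, hru]
  rcases he with he | he <;> rw [he] at hw hxg
  · rw [one_mul] at hw
    have hk : x * g₀ ∈ SmallData.kernelT d T := SmallData.mem_kernelT d |>.2 ⟨mul_mem hx c.mem, fun a hat hao =>
      d.commute_of_root hT hTc (mul_mem hx c.mem) (hw ▸ mul_mem (mem_zpowers _) (mem_zpowers _)) hat hao⟩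
    rcases c.kernel _ hk with e1 | e1 <;> rw [e1] at hw
    · exact Invol.ne_one d.good.1 (by rw [← hw, mul_one])
    · rw [Invol.inv_mul_self d.good.1] at hw; exact Invol.ne_one d.good.1 hw.symm
  · rw [Invol.inv_mul_self d.good.1] at hw
    obtain ⟨w, hwdef⟩ : ∃ w, w = x * g₀ := ⟨_, rfl⟩
    rw [← hwdef] at hw
    have hbad : Commute x g₀ → False := fun hc => by
      rw [hc.eq] at hxg
      exact Invol.ne_one d.good.1 (mul_eq_right.1 hxg.symm)
    have hxe : x = w * g₀⁻¹ := by rw [hwdef]; group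
    have hwt : Commute w g₀ → False := fun hc => hbad (hxe ▸ hc.mul_left (Commute.refl g₀).inv_left)
    have hw1 : w ≠ 1 := fun e1 => hwt (e1 ▸ Commute.one_left g₀)
    have hwne : w ≠ t := fun e1 => hwt (e1 ▸ (hTc g₀ c.mem).symm)
    have hwT : w ∈ T := hwdef ▸ mul_mem hx c.mem
    have hwu : Commute w u := by
      have h1 : g₀ * w = t * (w * g₀) := by
        rw [hwdef]
        calc g₀ * (x * g₀) = g₀ * x * g₀ := by group
          _ = t * (x * g₀) * g₀ := by rw [hxg]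
          _ = _ := by group
      show w * u = u * w
      rw [← c.sq]
      symm
      calc g₀ * g₀ * w = g₀ * (t * (w * g₀)) := by rw [mul_assoc, h1]
        _ = t * (g₀ * w) * g₀ := by rw [← mul_assoc g₀ t, (hTc g₀ c.mem).eq]; group
        _ = t * t * w * (g₀ * g₀) := by rw [h1]; group
        _ = w * (g₀ * g₀) := by rw [Invol.inv_mul_self d.good.1, one_mul]
    by_cases hwu' : w = u
    · exact hwt (hwu' ▸ c.sq ▸ (Commute.refl g₀).mul_left (Commute.refl g₀))
    · have h3 := d.mul_eq hT hTc hwT (Invol.orderOf_eq_two_of hw1 hw) hwne hut c.ord c.ne hwu hwu'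
      refine hwt ?_
      rw [show w = t * u⁻¹ by rw [← h3]; group]
      exact ((hTc g₀ c.mem).symm).mul_left (c.sq ▸ (Commute.refl g₀).mul_left (Commute.refl g₀)).inv_left

theorem u_central {x : G} (hx : x ∈ T) : Commute x u := by
  have h := c.sq_eq hT hTc (mul_mem (mul_mem hx c.mem) (inv_mem hx) : x * g₀ * x⁻¹ ∈ T)
    (by rw [show x * g₀ * x⁻¹ * (x * g₀ * x⁻¹) = x * (g₀ * g₀) * x⁻¹ by group, c.sq, Invol.orderOf_conj_eq, c.ord])
  rw [show x * g₀ * x⁻¹ * (x * g₀ * x⁻¹) = x * (g₀ * g₀) * x⁻¹ by group, c.sq] at h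
  exact mul_inv_eq_iff_eq_mul.1 h

theorem invol_cases {w : G} (hw : w ∈ T) (hw2 : orderOf w = 2) : w = t ∨ w = u ∨ w = t * u := by
  by_cases h1 : w = t
  · exact Or.inl h1
  by_cases h2 : w = u
  · exact Or.inr (Or.inl h2)
  have h := d.mul_eq hT hTc hw hw2 h1 (c.sq ▸ mul_mem c.mem c.mem) c.ord c.ne (c.u_central hT hTc hw) h2
  refine Or.inr (Or.inr ?_)
  rw [← h, mul_assoc, Invol.inv_mul_self c.ord, mul_one]

include htT

theorem not_good : ¬ IsGood u := by
  intro hu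
  obtain ⟨-, a, hau, hao, ha1⟩ := hu
  let du : SmallData u := ⟨d.ii, ⟨c.ord, a, hau, hao, ha1⟩, d.alone⟩
  have hTu : ∀ x ∈ T, Commute x u := fun x hx => c.u_central hT hTc hx
  have hsq : g₀ * t * (g₀ * t) = u := by
    rw [(hTc g₀ c.mem).symm.mul_mul_mul_comm, c.sq, Invol.inv_mul_self d.good.1, mul_one]
  have h1 := du.commute_of_root hT hTu c.mem (c.sq ▸ mul_mem (mem_zpowers g₀) (mem_zpowers g₀)) hau hao
  have h2 := du.commute_of_root hT hTu (mul_mem c.mem htT)
    (by have := mul_mem (mem_zpowers (g₀ * t)) (mem_zpowers (g₀ * t)); rwa [hsq] at this) hau hao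
  have h3 : Commute a t := by
    have := (h1.inv_left.mul_left h2).symm
    rwa [inv_mul_cancel_left] at this
  exact c.ne (d.alone t u d.good c.ord (d.ii.cent_eq_of_commute d.good.1 c.ord h3 hau hao ha1))

end TwoData

end Cfsg.Lib.IIGroups
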